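import Groth.Agent.L18.ProjPt
import Groth.Agent.L18.ProjSpace
import Groth.Agent.L22.LinProj
import Mathlib.AlgebraicGeometry.Morphisms.ClosedImmersion
import Mathlib.AlgebraicGeometry.Morphisms.Smooth
import Mathlib.RingTheory.FiniteType

/-!
Affine charts of a closed subscheme of projective space attached to linear forms.
-/

set_option autoImplicit false
set_option linter.style.haveILetI false
set_option maxSynthPendingDepth 3
set_option backward.isDefEq.respectTransparency false
set_option backward.isDefEq.respectTransparency.types false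

universe u

open CategoryTheory CategoryTheory.Limits AlgebraicGeometry TopologicalSpace MvPolynomial HomogeneousLocalization

noncomputable section

namespace Groth.L06.ProjEmbed

open Groth.L18.ProjPt (awayHom awayHom_mk pt pt_eq_of_scale)

variable {k : Type u} [Field k] {n : ℕ}

local notation "𝒜" => CohB1.polyGrading n k
local notation "S" => MvPolynomial (Fin (n + 1)) k

/-- The coordinate `z_i / h`. -/
def crd {h : S} (hh : h ∈ 𝒜 1) (i : Fin (n + 1)) : Away 𝒜 h :=
  Away.mk 𝒜 hh 1 (X i) (by simpa using Groth.L18.PS.X_mem n i)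

/-- The constants. -/
def scal (h : S) : k →+* Away 𝒜 h :=
  (fromZeroRingHom 𝒜 (Submonoid.powers h)).comp (algebraMap k (𝒜 0))

theorem val_scal (h : S) (c : k) : (scal h c).val = algebraMap S (Localization.Away h) (C c) := by
  show (fromZeroRingHom 𝒜 (Submonoid.powers h) (algebraMap k (𝒜 0) c)).val = _
  exact Localization.mk_one_eq_algebraMap _

theorem mk_eq_eval {h : S} (hh : h ∈ 𝒜 1) (e : ℕ) (F : S) (hF : F ∈ 𝒜 (e • 1)) :
    Away.mk 𝒜 hh e F hF = eval₂Hom (scal h) (crd hh) F := by
  apply HomogeneousLocalization.val_injective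
  let ν : Away 𝒜 h →+* Localization.Away h := algebraMap _ _
  show _ = ν (eval₂Hom (scal h) (crd hh) F)
  rw [← RingHom.comp_apply ν, MvPolynomial.comp_eval₂Hom]
  have hσ : ν.comp (scal h) = (algebraMap S (Localization.Away h)).comp C := RingHom.ext (val_scal h)
  let v : Localization.Away h := IsLocalization.Away.invSelf h
  have hc : (fun i => ν (crd hh i)) = fun i => v * algebraMap S (Localization.Away h) (X i) := funext fun i => by
    show (Away.mk 𝒜 hh 1 (X i) _).val = _
    rw [Away.val_mk, Localization.mk_eq_mk', IsLocalization.mk'_eq_iff_eq_mul, mul_right_comm]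
    simp only [pow_one]
    rw [mul_comm v, IsLocalization.Away.mul_invSelf, one_mul]
  have hev : eval₂Hom ((algebraMap S (Localization.Away h)).comp C) (fun i => algebraMap S (Localization.Away h) (X i)) F =
      algebraMap S (Localization.Away h) F := RingHom.congr_fun (MvPolynomial.ringHom_ext (by simp) (by simp) :
    eval₂Hom ((algebraMap S (Localization.Away h)).comp C) (fun i => algebraMap S (Localization.Away h) (X i)) =
      algebraMap S (Localization.Away h)) F
  rw [hσ, hc, Groth.L18.PS.eval_smul _ _ v (show F.IsHomogeneous e by simpa using hF), hev,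
    Away.val_mk, Localization.mk_eq_mk', IsLocalization.mk'_eq_iff_eq_mul]
  show algebraMap S (Localization.Away h) F = v ^ e * algebraMap S _ F * algebraMap S _ (h ^ e)
  rw [mul_right_comm, map_pow, ← mul_pow, mul_comm v, IsLocalization.Away.mul_invSelf, one_pow, one_mul]

variable {C' : Type u} [CommRing C']

theorem eval_self {h : S} (hh : h ∈ 𝒜 1) (θ : Away 𝒜 h →+* C') :
    eval₂Hom (θ.comp (scal h)) (fun i => θ (crd hh i)) h = 1 := by
  rw [← MvPolynomial.comp_eval₂Hom, RingHom.comp_apply, ← mk_eq_eval hh 1 h (by simpa using hh)]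
  have h1 : Away.mk 𝒜 hh 1 h (by simpa using hh) = 1 := HomogeneousLocalization.val_injective _ (by
    rw [Away.val_mk, HomogeneousLocalization.val_one]
    simp only [pow_one]
    exact Localization.mk_self ⟨h, Submonoid.mem_powers h⟩)
  rw [h1, map_one]

/-- A point of a chart is the evaluation at its coordinates. -/
theorem eq_awayHom {h : S} (hh : h ∈ 𝒜 1) (θ : Away 𝒜 h →+* C') :
    θ = awayHom 𝒜 (eval₂Hom (θ.comp (scal h)) fun i => θ (crd hh i)) h (by rw [eval_self hh θ]; exact isUnit_one) := by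
  ext z
  obtain ⟨e, F, hF, rfl⟩ := Away.mk_surjective 𝒜 hh z
  have h1 := awayHom_mk (𝒮 := 𝒜) (eval₂Hom (θ.comp (scal h)) fun i => θ (crd hh i))
    (t := h) (by rw [eval_self hh θ]; exact isUnit_one) hh e F hF
  rw [show (eval₂Hom (θ.comp (scal h)) fun i => θ (crd hh i)) h ^ e = 1 by simp only [eval_self hh θ, one_pow], mul_one] at h1
  rw [h1, mk_eq_eval hh e F hF, ← RingHom.comp_apply θ, MvPolynomial.comp_eval₂Hom]

theorem awayHom_scal (σ : k →+* C') (v : Fin (n + 1) → C') {h : S} (hu : IsUnit (eval₂Hom σ v h)) (c : k) :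
    awayHom 𝒜 (eval₂Hom σ v) h hu (scal h c) = σ c := by
  show IsLocalization.Away.lift h hu ((scal h c).val) = _
  rw [val_scal, IsLocalization.Away.lift_eq, eval₂Hom_C]

theorem awayHom_crd (σ : k →+* C') (v : Fin (n + 1) → C') {h : S} (hh : h ∈ 𝒜 1)
    (hu : IsUnit (eval₂Hom σ v h)) (i : Fin (n + 1)) :
    awayHom 𝒜 (eval₂Hom σ v) h hu (crd hh i) * eval₂Hom σ v h = v i := by
  have := awayHom_mk (𝒮 := 𝒜) (eval₂Hom σ v) hu hh 1 (X i) (by simpa using Groth.L18.PS.X_mem n i)
  rwa [pow_one, eval₂Hom_X'] at this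

/-- The point with coordinates `v` does not depend on the chart or the scaling. -/
theorem pt_scale {C : CommRingCat.{u}} (σ : k →+* C) (v : Fin (n + 1) → C) (c : C) {p q : S} (hp : p ∈ 𝒜 1)
    (hq : q ∈ 𝒜 1) (hpu : IsUnit (eval₂Hom σ v p)) (hqu : IsUnit (eval₂Hom σ (fun i => c * v i) q)) :
    pt 𝒜 (eval₂Hom σ v) hp one_pos hpu = pt 𝒜 (eval₂Hom σ fun i => c * v i) hq one_pos hqu :=
  pt_eq_of_scale _ _ c (fun _ _ hx => Groth.L18.PS.eval_smul σ v c hx) hp hq hpu hqu

section Sub

variable {X₀ : Scheme.{u}} (ι : X₀ ⟶ CohB1.ProjSpace n k) [IsClosedImmersion ι]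
  {h : MvPolynomial (Fin (n + 1)) k} (hh : h ∈ CohB1.polyGrading n k 1)

theorem exists_idl : ∃ I : Ideal (Away 𝒜 h), ∃ e : pullback ι (Proj.awayι 𝒜 h hh one_pos) ≅
    Spec (.of (Away 𝒜 h ⧸ I)), pullback.snd ι (Proj.awayι 𝒜 h hh one_pos) =
      e.hom ≫ Spec.map (CommRingCat.ofHom (Ideal.Quotient.mk I)) :=
  (IsClosedImmersion.Spec_iff (R := CommRingCat.of (Away 𝒜 h))).1 inferInstance

/-- The equations of the chart of `h`. -/
def idl : Ideal (Away 𝒜 h) := (exists_idl ι hh).choose

/-- The coordinate ring of the chart of `h`. -/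
abbrev Ring' : Type u := Away 𝒜 h ⧸ idl ι hh

instance : Algebra k (Ring' ι hh) := ((Ideal.Quotient.mk (idl ι hh)).comp (scal h)).toAlgebra

/-- The identification of the chart. -/
def iso : pullback ι (Proj.awayι 𝒜 h hh one_pos) ≅ Spec (.of (Ring' ι hh)) := (exists_idl ι hh).choose_spec.choose

theorem iso_hom : (iso ι hh).hom ≫ Spec.map (CommRingCat.ofHom (Ideal.Quotient.mk (idl ι hh))) =
    pullback.snd ι (Proj.awayι 𝒜 h hh one_pos) := (exists_idl ι hh).choose_spec.choose_spec.symm

/-- The chart. -/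
def chX : Spec (.of (Ring' ι hh)) ⟶ X₀ := (iso ι hh).inv ≫ pullback.fst ι (Proj.awayι 𝒜 h hh one_pos)

instance : IsOpenImmersion (chX ι hh) := by unfold chX; infer_instance

theorem chX_ι : chX ι hh ≫ ι = Spec.map (CommRingCat.ofHom (Ideal.Quotient.mk (idl ι hh))) ≫
    Proj.awayι 𝒜 h hh one_pos := by
  rw [chX, Category.assoc, pullback.condition, ← iso_hom, Category.assoc, Iso.inv_hom_id_assoc]

/-- Points of `X` lying in a chart are points of the coordinate ring. -/
theorem exists_lift {C : CommRingCat.{u}} (a : Spec C ⟶ X₀) (θ : Away 𝒜 h →+* C)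
    (ha : a ≫ ι = Spec.map (CommRingCat.ofHom θ) ≫ Proj.awayι 𝒜 h hh one_pos) :
    ∃ χ : Ring' ι hh →+* C, χ.comp (Ideal.Quotient.mk (idl ι hh)) = θ ∧ a = Spec.map (CommRingCat.ofHom χ) ≫ chX ι hh := by
  let l := pullback.lift a (Spec.map (CommRingCat.ofHom θ)) ha ≫ (iso ι hh).hom
  refine ⟨(Spec.preimage l).hom, ?_, ?_⟩
  · have h1 : Spec.map (CommRingCat.ofHom (Ideal.Quotient.mk (idl ι hh)) ≫ Spec.preimage l) =
        Spec.map (CommRingCat.ofHom θ) := by
      rw [Spec.map_comp, Spec.map_preimage, Category.assoc, iso_hom, pullback.lift_snd]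
    exact congrArg CommRingCat.Hom.hom (Spec.map_injective h1)
  · rw [show CommRingCat.ofHom (Spec.preimage l).hom = Spec.preimage l from rfl, Spec.map_preimage, chX,
      Category.assoc, Iso.hom_inv_id_assoc, pullback.lift_fst]

theorem mem_range (x : X₀) (hx : ι x ∈ Proj.basicOpen 𝒜 h) : x ∈ Set.range (chX ι hh) := by
  rw [← Proj.opensRange_awayι 𝒜 h hh one_pos] at hx
  obtain ⟨y, hy⟩ := hx
  obtain ⟨z, hz, -⟩ := Scheme.Pullback.exists_preimage_pullback x y hy.symm
  exact ⟨(iso ι hh).hom z, by show ((iso ι hh).hom ≫ (iso ι hh).inv ≫ pullback.fst ι (Proj.awayι 𝒜 h hh one_pos)) z = x; rw [Iso.hom_inv_id_assoc]; exact hz⟩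

theorem chX_toSpec :
    chX ι hh ≫ ι ≫ CohB1.ProjSpace.toSpec n k = Spec.map (CommRingCat.ofHom (algebraMap k (Ring' ι hh))) := by
  rw [← Category.assoc, chX_ι, Category.assoc, Groth.L22.LinProj.awayι_toSpec, ← Spec.map_comp]
  rfl

theorem smooth [Smooth (ι ≫ CohB1.ProjSpace.toSpec n k)] : Algebra.Smooth k (Ring' ι hh) := by
  have h1 : Smooth (Spec.map (CommRingCat.ofHom (algebraMap k (Ring' ι hh)))) := by
    rw [← chX_toSpec]; infer_instance
  rw [← RingHom.smooth_algebraMap]
  exact (HasRingHomProperty.Spec_iff (P := @Smooth)).1 h1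

theorem dim_le {d : ℕ} (hd : topologicalKrullDim X₀ = d) : ringKrullDim (Ring' ι hh) ≤ d := by
  rw [← hd, ← PrimeSpectrum.topologicalKrullDim_eq_ringKrullDim]
  exact (chX ι hh).isOpenEmbedding.isInducing.topologicalKrullDim_le

end Sub

end Groth.L06.ProjEmbed
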