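import Groth.Agent.L06.ProjEmbed.Kernel
import Groth.Agent.L15.Hyper.OmegaVanish
import Mathlib.RingTheory.Smooth.StandardSmoothOfFree
import Mathlib.Algebra.DualNumber

/-!
Linear forms whose zero locus avoids the secant and tangent lines of smooth affine charts.
-/

set_option autoImplicit false
set_option linter.style.haveILetI false
set_option maxSynthPendingDepth 3
set_option backward.isDefEq.respectTransparency false

universe u

open MvPolynomial TensorProduct

noncomputable section

namespace Groth.L06.ProjEmbed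

variable {k : Type u} [Field k] {n : ℕ}

/-- A linear substitution with few parameters. -/
structure Target (k : Type u) [Field k] (n r : ℕ) : Type (u + 1) where
  σ : Type u
  [fin : Finite σ]
  A : Type u
  [ring : CommRing A]
  [alg : Algebra k A]
  [ft : Algebra.FiniteType k A]
  L : Fin (n + 1) → MvPolynomial σ A
  hL : ∀ i, (L i).IsHomogeneous 1
  hdim : ringKrullDim A + Nat.card σ ≤ (r : WithBot ℕ∞)

attribute [instance] Target.fin Target.ring Target.alg Target.ft

/-- The secant substitution of two charts. -/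
abbrev secant {A B : Type u} [CommRing A] [CommRing B] [Algebra k A] [Algebra k B] [Algebra.FiniteType k A]
    [Algebra.FiniteType k B] (y : Fin (n + 1) → A) (y' : Fin (n + 1) → B) {d : ℕ} (hA : ringKrullDim A ≤ d)
    (hB : ringKrullDim B ≤ d) : Target k n (2 * d + 2) where
  σ := ULift.{u} (Fin 2)
  A := A ⊗[k] B
  ft := Algebra.FiniteType.trans (S := A) (inferInstance : Algebra.FiniteType k A) (inferInstance : Algebra.FiniteType A (A ⊗[k] B))
  L i := C (y i ⊗ₜ[k] (1 : B)) * X ⟨0⟩ + C ((1 : A) ⊗ₜ[k] y' i) * X ⟨1⟩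
  hL i := ((isHomogeneous_X _ _).C_mul _).add ((isHomogeneous_X _ _).C_mul _)
  hdim := by
    rw [Nat.card_ulift, Nat.card_fin]
    refine (add_le_add (dim_tensor_le A B hA hB) le_rfl).trans ?_
    exact_mod_cast (by omega : d + d + 2 ≤ 2 * d + 2)

/-- A tangent substitution of a chart. -/
abbrev tangent {B : Type u} [CommRing B] [Algebra k B] [Algebra.FiniteType k B] (y : Fin (n + 1) → B) {d m : ℕ}
    (hB : ringKrullDim B ≤ d) (hm : m ≤ d) (R : Fin (n + 1) → Fin m → B) : Target k n (2 * d + 2) where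
  σ := ULift.{u} (Option (Fin m))
  A := B
  L i := C (y i) * X ⟨none⟩ + ∑ l, C (R i l) * X ⟨some l⟩
  hL i := ((isHomogeneous_X _ _).C_mul _).add (IsHomogeneous.sum _ _ _ fun l _ => (isHomogeneous_X _ _).C_mul _)
  hdim := by
    rw [Nat.card_ulift, Nat.card_eq_fintype_card, Fintype.card_option, Fintype.card_fin]
    refine (add_le_add hB le_rfl).trans ?_
    exact_mod_cast (by omega : d + (m + 1) ≤ 2 * d + 2)

theorem dim_away_le {A : Type u} [CommRing A] (g : A) : ringKrullDim (Localization.Away g) ≤ ringKrullDim A :=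
  Order.krullDim_le_of_strictMono (PrimeSpectrum.comap (algebraMap A (Localization.Away g))) fun _ _ h =>
    lt_of_le_of_ne (Ideal.comap_mono h.le) fun he =>
      h.ne (PrimeSpectrum.localization_comap_injective (Localization.Away g) (Submonoid.powers g) he)

/-- Differentials of a smooth algebra are locally spanned by few elements. -/
theorem exists_span_kaehler (A : Type u) [CommRing A] [Algebra k A] [Algebra.Smooth k A] {d : ℕ}
    (hA : ringKrullDim A ≤ d) :
    ∃ (c : ℕ) (g : Fin c → A) (m : Fin c → ℕ) (ω : ∀ l, Fin (m l) → KaehlerDifferential k (Localization.Away (g l))),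
      Ideal.span (Set.range g) = ⊤ ∧ (∀ l, m l ≤ d) ∧ ∀ l, Submodule.span (Localization.Away (g l)) (Set.range (ω l)) = ⊤ := by
  obtain ⟨s, hs, hss⟩ := Algebra.Smooth.exists_span_eq_top_isStandardSmooth (R := k) (S := A)
  obtain ⟨s', hs', hspan⟩ := (Ideal.span_eq_top_iff_finite s).1 hs
  let e := s'.equivFin
  have key : ∀ l : Fin s'.card, ∃ m ≤ d, ∃ ω : Fin m → KaehlerDifferential k (Localization.Away (e.symm l).1),
      Submodule.span (Localization.Away (e.symm l).1) (Set.range ω) = ⊤ := by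
    intro l
    haveI := hss _ (hs' (e.symm l).2)
    rcases subsingleton_or_nontrivial (Localization.Away (e.symm l).1) with hsub | hnt
    · haveI := Module.subsingleton (Localization.Away (e.symm l).1) (KaehlerDifferential k (Localization.Away (e.symm l).1))
      exact ⟨0, Nat.zero_le _, Fin.elim0, eq_top_iff.2 fun x _ => by rw [Subsingleton.elim x 0]; exact zero_mem _⟩
    obtain ⟨_, _, _, _, ⟨P⟩⟩ := Algebra.IsStandardSmooth.out (R := k) (S := Localization.Away (e.symm l).1)
    haveI : Algebra.IsStandardSmoothOfRelativeDimension P.dimension k (Localization.Away (e.symm l).1) :=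
      ⟨_, _, _, inferInstance, P, rfl⟩
    refine ⟨P.dimension, ?_, ?_⟩
    · exact_mod_cast (Groth.L15.Hyper.relDim_le k (Localization.Away (e.symm l).1) P.dimension).trans
        ((dim_away_le _).trans hA)
    haveI : Module.Free (Localization.Away (e.symm l).1) (KaehlerDifferential k (Localization.Away (e.symm l).1)) :=
      inferInstance
    let b := Module.finBasisOfFinrankEq (Localization.Away (e.symm l).1)
      (KaehlerDifferential k (Localization.Away (e.symm l).1))
      (Module.finrank_eq_of_rank_eq (Algebra.IsStandardSmoothOfRelativeDimension.rank_kaehlerDifferential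
        (R := k) (S := Localization.Away (e.symm l).1) P.dimension))
    exact ⟨b, b.span_eq⟩
  choose m hm ω hω using key
  refine ⟨s'.card, fun l => (e.symm l).1, m, ω, ?_, hm, hω⟩
  rw [show Set.range (fun l => (e.symm l).1) = (↑s' : Set A) from Set.ext fun x =>
    ⟨fun ⟨l, hl⟩ => hl ▸ (e.symm l).2, fun hx => ⟨e ⟨x, hx⟩, by simp⟩⟩]
  exact hspan

theorem exists_tangent_eval {B K : Type u} [CommRing B] [Algebra k B] [CommRing K] [Algebra k K]
    (θ : B →ₐ[k] DualNumber K) {m : ℕ} (ω : Fin m → KaehlerDifferential k B) (y : Fin (n + 1) → B)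
    (R : Fin (n + 1) → Fin m → B) (hR : ∀ i, ∑ q, R i q • ω q = KaehlerDifferential.D k B (y i)) (a : K) :
    ∃ ψ : MvPolynomial (ULift.{u} (Option (Fin m))) B →ₐ[k] K, ∀ i,
      ψ (C (y i) * X ⟨none⟩ + ∑ q, C (R i q) * X ⟨some q⟩) =
        a * TrivSqZeroExt.fst (θ (y i)) + TrivSqZeroExt.snd (θ (y i)) := by
  let χ : B →ₐ[k] K := (TrivSqZeroExt.fstHom k K K).comp θ
  letI : Algebra B K := χ.toRingHom.toAlgebra
  haveI : IsScalarTower k B K := IsScalarTower.of_algebraMap_eq fun r => (χ.commutes r).symm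
  let D : Derivation k B K := Derivation.mk'
    { toFun := fun x => TrivSqZeroExt.snd (θ x)
      map_add' := fun x x' => by simp
      map_smul' := fun r x => by simp }
    fun x x' => by
      show TrivSqZeroExt.snd (θ (x * x')) = χ x * TrivSqZeroExt.snd (θ x') + χ x' * TrivSqZeroExt.snd (θ x)
      rw [map_mul, DualNumber.snd_mul]
      show TrivSqZeroExt.fst (θ x) * _ + _ = TrivSqZeroExt.fst (θ x) * _ + TrivSqZeroExt.fst (θ x') * _
      ring
  refine ⟨aevalTower χ fun s => s.down.elim a fun q => D.liftKaehlerDifferential (ω q), fun i => ?_⟩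
  have hD : D (y i) = ∑ q, χ (R i q) * D.liftKaehlerDifferential (ω q) := by
    rw [← D.liftKaehlerDifferential_comp_D, ← hR, map_sum]
    exact Finset.sum_congr rfl fun q _ => map_smul _ _ _
  rw [show TrivSqZeroExt.snd (θ (y i)) = D (y i) from rfl, hD]
  simp [χ, mul_comm]

/-- The forms detect the vanishing of the substitution. -/
def Target.Detects {r : ℕ} (t : Target k n r) (f : Fin r → CohB1.polyGrading n k 1) : Prop :=
  ∀ (K : Type u) [CommRing K] [IsReduced K] (ψ : MvPolynomial t.σ t.A →+* K),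
    (∀ l, ψ (aeval t.L (f l).1) = 0) → ∀ i, ψ (t.L i) = 0

theorem exists_forms_targets [Infinite k] {T : Type} [Finite T] {r : ℕ} (tgt : T → Target k n r) :
    ∃ f : Fin r → CohB1.polyGrading n k 1, ∀ t, (tgt t).Detects f :=
  exists_forms_detect (k := k) (n := n) (fun t => (tgt t).σ) (fun t => (tgt t).A)
    (fun t => (tgt t).L) (fun t => (tgt t).hL) r (fun t => (tgt t).hdim)

theorem Target.Detects.algHom {r : ℕ} {t : Target k n r} {f : Fin r → CohB1.polyGrading n k 1} (hf : t.Detects f)
    {K : Type u} [Field K] [Algebra k K] (ψ : MvPolynomial t.σ t.A →ₐ[k] K)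
    (h : ∀ l, aeval (fun i => ψ (t.L i)) (f l).1 = 0) (i : Fin (n + 1)) : ψ (t.L i) = 0 :=
  hf K ψ.toRingHom (fun l => by
    show (ψ.comp (aeval t.L)) (f l).1 = 0
    rw [comp_aeval]; exact h l) i

theorem secant_detects {A B : Type u} [CommRing A] [CommRing B] [Algebra k A] [Algebra k B] [Algebra.FiniteType k A]
    [Algebra.FiniteType k B] {y : Fin (n + 1) → A} {y' : Fin (n + 1) → B} {d : ℕ} {hA : ringKrullDim A ≤ d}
    {hB : ringKrullDim B ≤ d} {f : Fin (2 * d + 2) → CohB1.polyGrading n k 1} (hf : (secant y y' hA hB).Detects f)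
    {K : Type u} [Field K] [Algebra k K] (χ : A →ₐ[k] K) (χ' : B →ₐ[k] K) (a b : K)
    (h : ∀ l, aeval (fun i => a * χ (y i) + b * χ' (y' i)) (f l).1 = 0) (i : Fin (n + 1)) :
    a * χ (y i) + b * χ' (y' i) = 0 := by
  let v : ULift.{u} (Fin 2) → K := fun s => ![a, b] s.down
  let ψ : MvPolynomial (ULift.{u} (Fin 2)) (A ⊗[k] B) →ₐ[k] K :=
    aevalTower (Algebra.TensorProduct.productMap χ χ') v
  have hψ : ∀ i, ψ (C (y i ⊗ₜ[k] (1 : B)) * X ⟨0⟩ + C ((1 : A) ⊗ₜ[k] y' i) * X ⟨1⟩) =
      a * χ (y i) + b * χ' (y' i) := fun i => by simp [ψ, v, mul_comm]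
  rw [← hψ i]
  refine hf.algHom ψ (fun l => ?_) i
  exact (congrArg (fun w => aeval w (f l).1) (funext hψ)).trans (h l)

theorem tangent_detects {B : Type u} [CommRing B] [Algebra k B] [Algebra.FiniteType k B] {y : Fin (n + 1) → B}
    {d m : ℕ} {hB : ringKrullDim B ≤ d} {hm : m ≤ d} {R : Fin (n + 1) → Fin m → B}
    {f : Fin (2 * d + 2) → CohB1.polyGrading n k 1} (hf : (tangent y hB hm R).Detects f)
    {K : Type u} [Field K] [Algebra k K] (θ : B →ₐ[k] DualNumber K) (ω : Fin m → KaehlerDifferential k B)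
    (hR : ∀ i, ∑ q, R i q • ω q = KaehlerDifferential.D k B (y i)) (a : K)
    (h : ∀ l, aeval (fun i => a * TrivSqZeroExt.fst (θ (y i)) + TrivSqZeroExt.snd (θ (y i))) (f l).1 = 0)
    (i : Fin (n + 1)) : a * TrivSqZeroExt.fst (θ (y i)) + TrivSqZeroExt.snd (θ (y i)) = 0 := by
  obtain ⟨ψ, hψ⟩ := exists_tangent_eval θ ω y R hR a
  rw [← hψ i]
  refine hf.algHom ψ (fun l => ?_) i
  exact (congrArg (fun w => aeval w (f l).1) (funext hψ)).trans (h l)

/-- Forms separating points and tangent vectors of smooth charts. -/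
theorem exists_forms_secant_tangent [Infinite k] {J : Type} [Finite J] (A : J → Type u) [∀ j, CommRing (A j)]
    [∀ j, Algebra k (A j)] [∀ j, Algebra.Smooth k (A j)] (y : ∀ j, Fin (n + 1) → A j) {d : ℕ}
    (hd : ∀ j, ringKrullDim (A j) ≤ d) :
    ∃ f : Fin (2 * d + 2) → CohB1.polyGrading n k 1,
      (∀ (K : Type u) [Field K] [Algebra k K] (j j' : J) (χ : A j →ₐ[k] K) (χ' : A j' →ₐ[k] K) (a b : K),
        (∀ l, aeval (fun i => a * χ (y j i) + b * χ' (y j' i)) (f l).1 = 0) →
          ∀ i, a * χ (y j i) + b * χ' (y j' i) = 0) ∧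
      ∀ (K : Type u) [Field K] [Algebra k K] (j : J) (θ : A j →ₐ[k] DualNumber K) (a : K),
        (∀ l, aeval (fun i => a * TrivSqZeroExt.fst (θ (y j i)) + TrivSqZeroExt.snd (θ (y j i))) (f l).1 = 0) →
          ∀ i, a * TrivSqZeroExt.fst (θ (y j i)) + TrivSqZeroExt.snd (θ (y j i)) = 0 := by
  classical
  haveI : ∀ j, Algebra.FiniteType k (A j) := fun j => inferInstance
  choose c g m ω hg hm hω using fun j => exists_span_kaehler (k := k) (A j) (hd j)
  have hR : ∀ j (l : Fin (c j)) (i : Fin (n + 1)), ∃ R : Fin (m j l) → Localization.Away (g j l),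
      ∑ q, R q • ω j l q = KaehlerDifferential.D k _ (algebraMap (A j) _ (y j i)) := fun j l i =>
    Submodule.mem_span_range_iff_exists_fun _ |>.1 (by rw [hω j l]; exact Submodule.mem_top)
  choose R hR using hR
  haveI : ∀ j (l : Fin (c j)), Algebra.FiniteType k (Localization.Away (g j l)) := fun j l =>
    (inferInstance : Algebra.FiniteType (A j) (Localization.Away (g j l))) |> Algebra.FiniteType.trans (inferInstance : Algebra.FiniteType k (A j))
  let tgt : (J × J) ⊕ (Σ j, Fin (c j)) → Target k n (2 * d + 2) := Sum.elim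
    (fun p => secant (y p.1) (y p.2) (hd p.1) (hd p.2))
    (fun q => tangent (fun i => algebraMap (A q.1) (Localization.Away (g q.1 q.2)) (y q.1 i))
      ((dim_away_le _).trans (hd q.1)) (hm q.1 q.2) (R q.1 q.2))
  obtain ⟨f, hf⟩ := exists_forms_targets tgt
  refine ⟨f, fun K _ _ j j' χ χ' a b h => secant_detects (hA := hd j) (hB := hd j') (hf (.inl (j, j'))) χ χ' a b h, ?_⟩
  intro K _ _ j θ a h
  obtain ⟨l, hl⟩ : ∃ l, TrivSqZeroExt.fst (θ (g j l)) ≠ 0 := by
    by_contra hall
    push Not at hall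
    have : Ideal.span (Set.range (g j)) ≤ RingHom.ker ((TrivSqZeroExt.fstHom k K K).comp θ).toRingHom :=
      Ideal.span_le.2 (by rintro _ ⟨l, rfl⟩; exact hall l)
    rw [hg j] at this
    exact RingHom.ker_ne_top _ (top_le_iff.1 this)
  have hu : IsUnit (θ (g j l)) := TrivSqZeroExt.isUnit_iff_isUnit_fst.2 (isUnit_iff_ne_zero.2 hl)
  let θ' : Localization.Away (g j l) →ₐ[k] DualNumber K :=
    IsLocalization.liftAlgHom (M := Submonoid.powers (g j l)) (f := θ) fun y => by
      obtain ⟨_, e, rfl⟩ := y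
      rw [map_pow]
      exact hu.pow e
  have hθ' : ∀ x, θ' (algebraMap (A j) _ x) = θ x := fun x => IsLocalization.lift_eq _ x
  have ht := tangent_detects (hB := (dim_away_le _).trans (hd j)) (hm := hm j l) (hf (.inr ⟨j, l⟩)) θ' (ω j l) (hR j l) a
  simp only [hθ'] at ht
  exact ht h

end Groth.L06.ProjEmbed
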