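import Groth.Prelude.Def_CohB1
import Mathlib.RingTheory.MvPolynomial.Homogeneous
import Mathlib.RingTheory.GradedAlgebra.Radical
import Mathlib.RingTheory.KrullDimension.NonZeroDivisors
import Mathlib.RingTheory.KrullDimension.Polynomial
import Mathlib.RingTheory.NoetherNormalization
import Mathlib.RingTheory.Ideal.GoingUp
import Mathlib.Algebra.Module.Submodule.Union
import Mathlib.RingTheory.Ideal.MinimalPrime.Noetherian
import Groth.Agent.L03.GeneralVector
import Groth.Agent.L03.RegularFiniteExt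

/-!
Linear forms separating the points of images of linear substitutions.
-/

set_option autoImplicit false
set_option linter.style.haveILetI false
set_option maxSynthPendingDepth 3

universe u

open MvPolynomial TensorProduct

namespace Groth.L06.ProjEmbed

variable {k : Type u} [Field k] {n : ℕ}

theorem dim_le_of_injective {A B : Type u} [CommRing A] [CommRing B] [Algebra k A] [Algebra k B]
    [Algebra.FiniteType k A] [Algebra.FiniteType k B] (φ : A →ₐ[k] B) (hφ : Function.Injective φ) :
    ringKrullDim A ≤ ringKrullDim B := by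
  rcases subsingleton_or_nontrivial A with hA | hA
  · exact (ringKrullDim_eq_bot_of_subsingleton (R := A)).le.trans bot_le
  obtain ⟨s, g, hg, hgf⟩ := exists_finite_inj_algHom_of_fg k A
  letI := g.toRingHom.toAlgebra
  haveI : Module.Finite (MvPolynomial (Fin s) k) A := hgf
  rw [← Groth.L03.RegularFiniteExt.ringKrullDim_eq_of_integral (A := MvPolynomial (Fin s) k) (B := A) hg,
    MvPolynomial.ringKrullDim_of_isNoetherianRing, ringKrullDim_eq_zero_of_field, zero_add, Nat.card_fin]
  exact Groth.L03.GeneralVector.le_ringKrullDim_of_injective (φ.comp g) (hφ.comp hg)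

theorem dim_le_of_integral {A B : Type u} [CommRing A] [CommRing B] [Algebra A B] [Algebra.IsIntegral A B] :
    ringKrullDim B ≤ ringKrullDim A :=
  Order.krullDim_le_of_strictMono (PrimeSpectrum.comap (algebraMap A B)) fun _ _ hPQ =>
    lt_of_le_of_ne (Ideal.comap_mono hPQ.le) fun h =>
      (Ideal.IsIntegral.comap_lt_comap (R := A) hPQ).ne
        (congrArg PrimeSpectrum.asIdeal h :)

theorem dim_tensor_le (A B : Type u) [CommRing A] [CommRing B] [Algebra k A] [Algebra k B]
    [Algebra.FiniteType k A] [Algebra.FiniteType k B] {a b : ℕ} (ha : ringKrullDim A ≤ a)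
    (hb : ringKrullDim B ≤ b) : ringKrullDim (A ⊗[k] B) ≤ ((a + b : ℕ) : WithBot ℕ∞) := by
  rcases subsingleton_or_nontrivial A with hA | hA
  · haveI : Subsingleton (A ⊗[k] B) := subsingleton_of_zero_eq_one (by
      rw [Algebra.TensorProduct.one_def, Subsingleton.elim (1 : A) 0, TensorProduct.zero_tmul])
    exact (ringKrullDim_eq_bot_of_subsingleton (R := A ⊗[k] B)).le.trans bot_le
  rcases subsingleton_or_nontrivial B with hB | hB
  · haveI : Subsingleton (A ⊗[k] B) := subsingleton_of_zero_eq_one (by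
      rw [Algebra.TensorProduct.one_def, Subsingleton.elim (1 : B) 0, TensorProduct.tmul_zero])
    exact (ringKrullDim_eq_bot_of_subsingleton (R := A ⊗[k] B)).le.trans bot_le
  obtain ⟨s, g, hg, hgf⟩ := exists_finite_inj_algHom_of_fg k A
  obtain ⟨t, g', hg', hgf'⟩ := exists_finite_inj_algHom_of_fg k B
  have key : ∀ (C : Type u) [CommRing C] [Algebra k C] (r c : ℕ) (γ : MvPolynomial (Fin r) k →ₐ[k] C),
      Function.Injective γ → γ.Finite → ringKrullDim C ≤ c → r ≤ c := by
    intro C _ _ r c γ hγ hγf hc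
    letI := γ.toRingHom.toAlgebra
    haveI : Module.Finite (MvPolynomial (Fin r) k) C := hγf
    rw [← Groth.L03.RegularFiniteExt.ringKrullDim_eq_of_integral (A := MvPolynomial (Fin r) k) (B := C) hγ,
      MvPolynomial.ringKrullDim_of_isNoetherianRing, ringKrullDim_eq_zero_of_field, zero_add, Nat.card_fin] at hc
    exact_mod_cast hc
  let θ : MvPolynomial (Fin s ⊕ Fin t) k →ₐ[k] A ⊗[k] B :=
    aeval (Sum.elim (fun i => g (X i) ⊗ₜ[k] 1) fun j => 1 ⊗ₜ[k] g' (X j))
  have hl : θ.comp (rename Sum.inl) = (Algebra.TensorProduct.includeLeft : A →ₐ[k] A ⊗[k] B).comp g :=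
    MvPolynomial.algHom_ext fun i => by simp [θ]
  have hr : θ.comp (rename Sum.inr) = (Algebra.TensorProduct.includeRight : B →ₐ[k] A ⊗[k] B).comp g' :=
    MvPolynomial.algHom_ext fun i => by simp [θ]
  letI := θ.toRingHom.toAlgebra
  haveI : Algebra.IsIntegral (MvPolynomial (Fin s ⊕ Fin t) k) (A ⊗[k] B) := by
    refine ⟨fun z => ?_⟩
    have h1 : ∀ a : A, θ.toRingHom.IsIntegralElem (a ⊗ₜ[k] (1 : B)) := fun a => by
      obtain ⟨P, hP, hPa⟩ := hgf.to_isIntegral a
      refine ⟨P.map (rename Sum.inl).toRingHom, hP.map _, ?_⟩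
      rw [Polynomial.eval₂_map, show θ.toRingHom.comp (rename Sum.inl).toRingHom =
        ((Algebra.TensorProduct.includeLeft : A →ₐ[k] A ⊗[k] B).toRingHom).comp g.toRingHom from
          congrArg AlgHom.toRingHom hl]
      show Polynomial.eval₂ _ ((Algebra.TensorProduct.includeLeft : A →ₐ[k] A ⊗[k] B).toRingHom a) P = 0
      rw [← Polynomial.hom_eval₂, hPa, map_zero]
    have h2 : ∀ b : B, θ.toRingHom.IsIntegralElem ((1 : A) ⊗ₜ[k] b) := fun b => by
      obtain ⟨P, hP, hPb⟩ := hgf'.to_isIntegral b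
      refine ⟨P.map (rename Sum.inr).toRingHom, hP.map _, ?_⟩
      rw [Polynomial.eval₂_map, show θ.toRingHom.comp (rename Sum.inr).toRingHom =
        ((Algebra.TensorProduct.includeRight : B →ₐ[k] A ⊗[k] B).toRingHom).comp g'.toRingHom from
          congrArg AlgHom.toRingHom hr]
      show Polynomial.eval₂ _ ((Algebra.TensorProduct.includeRight : B →ₐ[k] A ⊗[k] B).toRingHom b) P = 0
      rw [← Polynomial.hom_eval₂, hPb, map_zero]
    induction z using TensorProduct.induction_on with
    | zero => exact isIntegral_zero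
    | tmul a b =>
      rw [show a ⊗ₜ[k] b = (a ⊗ₜ[k] (1 : B)) * ((1 : A) ⊗ₜ[k] b) by simp]
      exact IsIntegral.mul (h1 a) (h2 b)
    | add x y hx hy => exact hx.add hy
  refine (dim_le_of_integral (A := MvPolynomial (Fin s ⊕ Fin t) k) (B := A ⊗[k] B)).trans ?_
  rw [MvPolynomial.ringKrullDim_of_isNoetherianRing, ringKrullDim_eq_zero_of_field, zero_add,
    Nat.card_eq_fintype_card, Fintype.card_sum, Fintype.card_fin, Fintype.card_fin]
  exact_mod_cast Nat.add_le_add (key A s a g hg hgf ha) (key B t b g' hg' hgf' hb)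

section Graded

/-- Kernels of substitutions of linear forms are homogeneous. -/
theorem isHomogeneous_ker {σ : Type u} {A : Type u} [CommRing A] [Algebra k A]
    (L : Fin (n + 1) → MvPolynomial σ A) (hL : ∀ i, (L i).IsHomogeneous 1) :
    (RingHom.ker (aeval L : MvPolynomial (Fin (n + 1)) k →ₐ[k] MvPolynomial σ A).toRingHom).IsHomogeneous
      (CohB1.polyGrading n k) := by
  intro d p hp
  rw [RingHom.mem_ker] at hp ⊢
  rw [show ((DirectSum.decompose (CohB1.polyGrading n k) p d : CohB1.polyGrading n k d) :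
    MvPolynomial (Fin (n + 1)) k) = homogeneousComponent d p from MvPolynomial.decomposition.decompose'_apply p d]
  have hh : ∀ m, (aeval L (homogeneousComponent m p)).IsHomogeneous m := fun m => by
    have h := (homogeneousComponent_isHomogeneous m p).aeval L hL
    rwa [one_mul] at h
  have h2 : homogeneousComponent d (aeval L p) = 0 := by
    rw [show aeval L p = 0 from hp, map_zero]
  conv_lhs at h2 => rw [← sum_homogeneousComponent p, map_sum, map_sum]
  rw [Finset.sum_eq_single d (fun m _ hm => by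
      rw [homogeneousComponent_of_mem ((mem_homogeneousSubmodule _ _).2 (hh m)), if_neg hm.symm])
    (fun hd => by
      rw [show homogeneousComponent d p = 0 from homogeneousComponent_eq_zero d p
        (by simpa [Finset.mem_range] using hd), map_zero, map_zero]),
    homogeneousComponent_of_mem ((mem_homogeneousSubmodule _ _).2 (hh d)), if_pos rfl] at h2
  exact h2

/-- The irrelevant ideal. -/
noncomputable abbrev irr (n : ℕ) (k : Type u) [Field k] : Ideal (MvPolynomial (Fin (n + 1)) k) :=
  RingHom.ker (constantCoeff : MvPolynomial (Fin (n + 1)) k →+* k)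

theorem le_irr {Q : Ideal (MvPolynomial (Fin (n + 1)) k)} (hQ : Q.IsHomogeneous (CohB1.polyGrading n k))
    (htop : Q ≠ ⊤) : Q ≤ irr n k := by
  intro p hp
  rw [RingHom.mem_ker]
  by_contra hne
  have h0 := hQ 0 hp
  rw [show ((DirectSum.decompose (CohB1.polyGrading n k) p 0 : CohB1.polyGrading n k 0) :
    MvPolynomial (Fin (n + 1)) k) = homogeneousComponent 0 p from MvPolynomial.decomposition.decompose'_apply p 0,
    homogeneousComponent_zero] at h0
  exact htop (Ideal.eq_top_of_isUnit_mem _ h0 ((isUnit_iff_ne_zero.2 (by simpa [constantCoeff_eq] using hne)).map C))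

theorem minimalPrimes_homogeneous {Q P : Ideal (MvPolynomial (Fin (n + 1)) k)}
    (hQ : Q.IsHomogeneous (CohB1.polyGrading n k)) (hP : P ∈ Q.minimalPrimes) :
    P.IsHomogeneous (CohB1.polyGrading n k) := by
  have h1 := hP.1.1.homogeneousCore (𝒜 := CohB1.polyGrading n k)
  have h2 : Q ≤ (P.homogeneousCore (CohB1.polyGrading n k)).toIdeal := by
    rw [← hQ.toIdeal_homogeneousCore_eq_self]
    exact Ideal.homogeneousCore_mono _ hP.1.2
  have h3 : P ≤ (P.homogeneousCore (CohB1.polyGrading n k)).toIdeal :=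
    hP.2 ⟨h1, h2⟩ (Ideal.toIdeal_homogeneousCore_le _ _)
  rw [le_antisymm h3 (Ideal.toIdeal_homogeneousCore_le _ _)]
  exact HomogeneousIdeal.isHomogeneous _

theorem irr_isMaximal : (irr n k).IsMaximal :=
  RingHom.ker_isMaximal_of_surjective _ fun c => ⟨C c, constantCoeff_C _ c⟩

theorem irr_le_of_forms (P : Ideal (MvPolynomial (Fin (n + 1)) k)) (h : ∀ i, X i ∈ P) : irr n k ≤ P := by
  intro p hp
  suffices ∀ q, q - C (constantCoeff q) ∈ P by simpa [RingHom.mem_ker.1 hp] using this p
  intro q
  induction q using MvPolynomial.induction_on with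
  | C c => simp
  | add a b ha hb => rw [map_add, map_add, add_sub_add_comm]; exact add_mem ha hb
  | mul_X a i _ => simp only [map_mul, constantCoeff_X, mul_zero, map_zero, sub_zero]; exact P.mul_mem_left _ (h i)

/-- Linear forms cutting a homogeneous ideal down to the vertex. -/
theorem exists_forms [Infinite k] : ∀ (r : ℕ) (Q : Ideal (MvPolynomial (Fin (n + 1)) k)),
    Q.IsHomogeneous (CohB1.polyGrading n k) →
    ringKrullDim (MvPolynomial (Fin (n + 1)) k ⧸ Q) ≤ r →
    ∃ f : Fin r → CohB1.polyGrading n k 1, irr n k ≤ (Q ⊔ Ideal.span (Set.range fun i => (f i).1)).radical := by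
  intro r
  induction r with
  | zero =>
    intro Q hQ hdim
    refine ⟨Fin.elim0, ?_⟩
    rw [Ideal.radical_eq_sInf, le_sInf_iff]
    rintro P ⟨hle, hP⟩
    obtain ⟨P₀, hP₀, hP₀P⟩ := Ideal.exists_minimalPrimes_le (J := P) (le_sup_left.trans hle)
    haveI := hP₀.1.1
    haveI : Ring.KrullDimLE 0 (MvPolynomial (Fin (n + 1)) k ⧸ Q) := by
      rw [Ring.krullDimLE_iff]; exact hdim
    have h0 : P₀.IsMaximal := by
      have hQP : Q ≤ P₀ := hP₀.1.2
      haveI : (P₀.map (Ideal.Quotient.mk Q)).IsPrime :=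
        Ideal.map_isPrime_of_surjective Ideal.Quotient.mk_surjective (by rwa [Ideal.mk_ker])
      haveI : (P₀.map (Ideal.Quotient.mk Q)).IsMaximal := Ideal.IsPrime.isMaximal' inferInstance
      have hc : P₀ = (P₀.map (Ideal.Quotient.mk Q)).comap (Ideal.Quotient.mk Q) := by
        rw [Ideal.comap_map_of_surjective _ Ideal.Quotient.mk_surjective, ← RingHom.ker_eq_comap_bot,
          Ideal.mk_ker, sup_eq_left.2 hQP]
      rw [hc]
      exact Ideal.comap_isMaximal_of_surjective _ Ideal.Quotient.mk_surjective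
    rw [← h0.eq_of_le (irr_isMaximal).ne_top (le_irr (minimalPrimes_homogeneous hQ hP₀) h0.ne_top)]
    exact hP₀P
  | succ r ih =>
    intro Q hQ hdim
    classical
    let V := {P : Ideal (MvPolynomial (Fin (n + 1)) k) // P ∈ Q.minimalPrimes ∧ P ≠ irr n k}
    haveI : Finite Q.minimalPrimes := Q.finite_minimalPrimes_of_isNoetherianRing.to_subtype
    haveI : Finite V := Finite.of_injective (β := Q.minimalPrimes) (fun P => ⟨P.1, P.2.1⟩)
      (fun a b h => Subtype.ext (congrArg Subtype.val h :))
    obtain ⟨f₀, hf₀⟩ := Submodule.exists_forall_notMem_of_forall_ne_top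
      (fun P : V => (P.1.restrictScalars k).comap (CohB1.polyGrading n k 1).subtype) fun P htop => P.2.2 <| by
        refine le_antisymm (le_irr (minimalPrimes_homogeneous hQ P.2.1) P.2.1.1.1.ne_top) (irr_le_of_forms _ fun i => ?_)
        exact (htop.ge (x := (⟨X i, (mem_homogeneousSubmodule _ _).2 (isHomogeneous_X k i)⟩ : CohB1.polyGrading n k 1)) trivial)
    have hQ' : (Q ⊔ Ideal.span {f₀.1}).IsHomogeneous (CohB1.polyGrading n k) :=
      hQ.sup (Ideal.homogeneous_span _ _ (by rintro x rfl; exact ⟨1, f₀.2⟩))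
    have hdim' : ringKrullDim (MvPolynomial (Fin (n + 1)) k ⧸ (Q ⊔ Ideal.span {f₀.1})) ≤ r := by
      rw [ringKrullDim_quotient] at hdim ⊢
      refine iSup_le fun s => ?_
      have hsQ : ∀ i, Q ≤ (s i).1.asIdeal := fun i => le_sup_left.trans (s i).2
      obtain ⟨P, hP, hPs⟩ := Ideal.exists_minimalPrimes_le (J := s.head.1.asIdeal) (hsQ 0)
      have hP' := hP.1.1
      by_cases he : P = s.head.1.asIdeal
      · have hmem : f₀.1 ∈ P := he ▸ s.head.2 ((le_sup_right (a := Q) : Ideal.span {f₀.1} ≤ _) (Ideal.mem_span_singleton_self _))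
        have hirr : P = irr n k := by
          by_contra hne
          exact hf₀ ⟨P, hP, hne⟩ hmem
        have hlen : s.length = 0 := by
          by_contra h
          have h1 : s.head < s ⟨1, by omega⟩ := s.strictMono (show (0 : Fin (s.length + 1)) < ⟨1, by omega⟩ from Nat.zero_lt_one)
          have h2 : s.head.1.asIdeal < (s ⟨1, by omega⟩).1.asIdeal := h1
          rw [← he, hirr] at h2
          exact (s ⟨1, by omega⟩).1.isPrime.ne_top (irr_isMaximal.1.2 _ h2)
        rw [hlen]
        exact_mod_cast Nat.zero_le r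
      · let e : PrimeSpectrum.zeroLocus (R := MvPolynomial (Fin (n + 1)) k) (Q ⊔ Ideal.span {f₀.1} : Ideal _) →
            PrimeSpectrum.zeroLocus (R := MvPolynomial (Fin (n + 1)) k) Q :=
          fun p => ⟨p.1, fun x hx => p.2 (le_sup_left (a := Q) hx)⟩
        let s' : LTSeries (PrimeSpectrum.zeroLocus (R := MvPolynomial (Fin (n + 1)) k) Q) :=
          (s.map e fun a b h => h).cons ⟨⟨P, hP'⟩, hP.1.2⟩
            (show (⟨⟨P, hP'⟩, hP.1.2⟩ : PrimeSpectrum.zeroLocus (R := MvPolynomial (Fin (n + 1)) k) Q) <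
                ⟨s.head.1, fun x hx => s.head.2 (le_sup_left (a := Q) hx)⟩ from
              lt_of_le_of_ne hPs fun h => he (congrArg (fun p => p.1.asIdeal) h))
        have h1 := (Order.LTSeries.length_le_krullDim s').trans hdim
        have h2 : s'.length ≤ r + 1 := by exact_mod_cast h1
        have h3 : s'.length = s.length + 1 := RelSeries.cons_length _ _ _
        exact_mod_cast (show s.length ≤ r by omega)
    obtain ⟨f, hf⟩ := ih _ hQ' hdim'
    refine ⟨Fin.cons f₀ f, hf.trans (Ideal.radical_mono ?_)⟩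
    refine sup_le (sup_le le_sup_left (le_sup_of_le_right (Ideal.span_mono ?_))) (le_sup_of_le_right (Ideal.span_mono ?_))
    · rintro x rfl
      exact ⟨0, rfl⟩
    · rintro _ ⟨i, rfl⟩
      exact ⟨i.succ, rfl⟩

end Graded

/-- Forms detecting the vanishing of finitely many linear substitutions. -/
theorem exists_forms_detect [Infinite k] {T : Type} [Finite T] (σ : T → Type u) [∀ t, Finite (σ t)]
    (A : T → Type u) [∀ t, CommRing (A t)] [∀ t, Algebra k (A t)] [∀ t, Algebra.FiniteType k (A t)]
    (L : ∀ t, Fin (n + 1) → MvPolynomial (σ t) (A t)) (hL : ∀ t i, (L t i).IsHomogeneous 1) (r : ℕ)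
    (hdim : ∀ t, ringKrullDim (A t) + Nat.card (σ t) ≤ (r : WithBot ℕ∞)) :
    ∃ f : Fin r → CohB1.polyGrading n k 1, ∀ (t : T) (K : Type u) [CommRing K] [IsReduced K]
      (ψ : MvPolynomial (σ t) (A t) →+* K),
        (∀ l, ψ (aeval (L t) (f l).1) = 0) → ∀ i, ψ (L t i) = 0 := by
  let φ : ∀ t, MvPolynomial (Fin (n + 1)) k →ₐ[k] MvPolynomial (σ t) (A t) := fun t => aeval (L t)
  let Q : Ideal (MvPolynomial (Fin (n + 1)) k) := ⨅ t, RingHom.ker (φ t).toRingHom
  have hQ : Q.IsHomogeneous (CohB1.polyGrading n k) := Ideal.IsHomogeneous.iInf fun t => isHomogeneous_ker (L t) (hL t)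
  have hQdim : ringKrullDim (MvPolynomial (Fin (n + 1)) k ⧸ Q) ≤ r := by
    rw [ringKrullDim_quotient]
    refine iSup_le fun s => ?_
    obtain ⟨t, ht⟩ : ∃ t, RingHom.ker (φ t).toRingHom ≤ s.head.1.asIdeal := by
      haveI := Fintype.ofFinite T
      have hle : Finset.univ.inf (fun t => RingHom.ker (φ t).toRingHom) ≤ s.head.1.asIdeal := by
        rw [Finset.inf_univ_eq_iInf]; exact s.head.2
      obtain ⟨t, -, ht⟩ := (Ideal.IsPrime.inf_le' (s.head.1.isPrime)).1 hle
      exact ⟨t, ht⟩
    have hdt : ringKrullDim (MvPolynomial (Fin (n + 1)) k ⧸ RingHom.ker (φ t).toRingHom) ≤ r := by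
      haveI : IsNoetherianRing (A t) := Algebra.FiniteType.isNoetherianRing k (A t)
      refine le_trans (@dim_le_of_injective k _ _ _ _ _ _ _
        (Algebra.FiniteType.of_surjective (Ideal.Quotient.mkₐ k _) Ideal.Quotient.mk_surjective) _
        (Ideal.kerLiftAlg (φ t)) (Ideal.kerLiftAlg_injective (φ t))) ?_
      rw [MvPolynomial.ringKrullDim_of_isNoetherianRing]
      exact hdim t
    rw [ringKrullDim_quotient] at hdt
    let s' : LTSeries (PrimeSpectrum.zeroLocus (R := MvPolynomial (Fin (n + 1)) k) (RingHom.ker (φ t).toRingHom)) :=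
      LTSeries.mk s.length (fun i => ⟨(s i).1, ht.trans (s.monotone (Fin.zero_le i) : s.head.1 ≤ (s i).1)⟩)
        fun a b h => (s.strictMono h : s a < s b)
    exact le_trans le_rfl ((Order.LTSeries.length_le_krullDim s').trans hdt)
  obtain ⟨f, hf⟩ := exists_forms r Q hQ hQdim
  refine ⟨f, fun t K _ _ ψ hψ i => ?_⟩
  obtain ⟨N, hN⟩ := hf (show X i ∈ irr n k from RingHom.mem_ker.2 (constantCoeff_X k i))
  have hle : Q ⊔ Ideal.span (Set.range fun l => (f l).1) ≤ RingHom.ker (ψ.comp (φ t).toRingHom) := by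
    refine sup_le (fun p hp => ?_) (Ideal.span_le.2 ?_)
    · show ψ (φ t p) = 0
      rw [show φ t p = 0 from (iInf_le (fun t => RingHom.ker (φ t).toRingHom) t) hp, map_zero]
    · rintro _ ⟨l, rfl⟩
      exact hψ l
  refine IsNilpotent.eq_zero ⟨N, ?_⟩
  have h := hle hN
  rw [RingHom.mem_ker, RingHom.comp_apply] at h
  simpa [φ] using h

end Groth.L06.ProjEmbed
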