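import Groth.Agent.L06.ProjEmbed.Unramified
import Mathlib.AlgebraicGeometry.Morphisms.IsIso

/-!
Smooth projective schemes of dimension `d` embed in projective space of dimension `2 d + 1`.
-/

set_option autoImplicit false
set_option linter.style.haveILetI false
set_option maxSynthPendingDepth 3
set_option backward.isDefEq.respectTransparency false
set_option backward.isDefEq.respectTransparency.types false

universe u

open CategoryTheory CategoryTheory.Limits AlgebraicGeometry TopologicalSpace MvPolynomial HomogeneousLocalization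

noncomputable section

namespace Groth.L06.ProjEmbed

open Groth.L22.LinProj (subst)
open Groth.L22.Reg (Form)
open Groth.L18.PS (X_mem)

variable {k : Type u} [Field k]

theorem isClosedImmersion_proj {N r : ℕ} {X₀ : Scheme.{u}} {ι : X₀ ⟶ CohB1.ProjSpace N k} [IsClosedImmersion ι]
    {p : X₀ ⟶ Spec (CommRingCat.of k)} [Smooth p] (hp : ι ≫ CohB1.ProjSpace.toSpec N k = p)
    {f : Fin (r + 1) → Form N k} (hS : SecAvoid ι f) (hT : TanAvoid ι f) :
    ∃ π : X₀ ⟶ CohB1.ProjSpace r k, IsClosedImmersion π ∧ π ≫ CohB1.ProjSpace.toSpec r k = p := by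
  obtain ⟨π, hfin, hbase, hπ⟩ := exists_projection hp hS
  haveI := hfin
  haveI := universallyInjective_proj hp hS hbase hπ
  haveI : Smooth (ι ≫ CohB1.ProjSpace.toSpec N k) := by rw [hp]; infer_instance
  haveI : FormallyUnramified π := by
    let 𝒰 : X₀.AffineOpenCover :=
      { I₀ := Fin (r + 1)
        X := fun m => CommRingCat.of (Ring' ι ((subst f).2 (X_mem (R := k) r m)))
        f := fun m => chX ι ((subst f).2 (X_mem (R := k) r m))
        idx := fun x => (mem_range_charts hp hS x).choose
        covers := fun x => (mem_range_charts hp hS x).choose_spec }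
    rw [IsZariskiLocalAtSource.iff_of_openCover (P := @FormallyUnramified) 𝒰.openCover]
    intro m
    show FormallyUnramified (chX ι ((subst f).2 (X_mem (R := k) r m)) ≫ π)
    rw [hπ m]
    haveI := smooth ι ((subst f).2 (X_mem (R := k) r m))
    haveI : FormallyUnramified (Spec.map (CommRingCat.ofHom
        ((Ideal.Quotient.mk (idl ι ((subst f).2 (X_mem (R := k) r m)))).comp (Away.map (subst f) (X m))))) :=
      (HasRingHomProperty.Spec_iff (P := @FormallyUnramified)).2 (chart_formallyUnramified hT m)
    exact MorphismProperty.comp_mem _ _ _ inferInstance inferInstance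
  haveI : IsIso (pullback.diagonal π) :=
    (isIso_iff_isOpenImmersion_and_surjective _).2 ⟨inferInstance, (UniversallyInjective.iff_diagonal π).1 inferInstance⟩
  haveI : Mono π := (pullback.isIso_diagonal_iff π).1 inferInstance
  exact ⟨π, (IsClosedImmersion.iff_isFinite_and_mono π).2 ⟨hfin, inferInstance⟩, hbase⟩

theorem exists_closedImmersion [Infinite k] {X₀ : Scheme.{u}} (p : X₀ ⟶ Spec (CommRingCat.of k)) [Smooth p]
    {N : ℕ} (ι : X₀ ⟶ CohB1.ProjSpace N k) [IsClosedImmersion ι] (hp : ι ≫ CohB1.ProjSpace.toSpec N k = p)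
    (d : ℕ) (hd : topologicalKrullDim X₀ = d) :
    ∃ i : X₀ ⟶ CohB1.ProjSpace (2 * d + 1) k,
      IsClosedImmersion i ∧ i ≫ CohB1.ProjSpace.toSpec (2 * d + 1) k = p := by
  haveI : Smooth (ι ≫ CohB1.ProjSpace.toSpec N k) := by rw [hp]; infer_instance
  haveI : ∀ j : Fin (N + 1), Algebra.Smooth k (Ring' ι (X_mem (R := k) N j)) := fun j => smooth ι _
  obtain ⟨f, hS, hT⟩ := exists_forms_secant_tangent (k := k) (n := N) (fun j : Fin (N + 1) => Ring' ι (X_mem (R := k) N j))
    (fun j i => crdX ι (X_mem N j) i) (d := d) fun j => dim_le ι _ hd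
  exact isClosedImmersion_proj (r := 2 * d + 1) hp (f := f)
    (fun K _ _ j j' χ χ' a b => hS K j j' χ χ' a b) (fun K _ _ j θ a => hT K j θ a)

end Groth.L06.ProjEmbed
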