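import Groth.Agent.L06.ProjEmbed.Chart
import Groth.Agent.L06.ProjEmbed.Forms
import Mathlib.AlgebraicGeometry.Morphisms.FormallyUnramified
import Mathlib.AlgebraicGeometry.Morphisms.UniversallyInjective
import Mathlib.LinearAlgebra.Dual.Lemmas

/-!
A linear projection defined by forms avoiding secant and tangent lines is a closed immersion.
-/

set_option autoImplicit false
set_option linter.style.haveILetI false
set_option maxSynthPendingDepth 3
set_option backward.isDefEq.respectTransparency false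
set_option backward.isDefEq.respectTransparency.types false

universe u

open CategoryTheory CategoryTheory.Limits AlgebraicGeometry TopologicalSpace MvPolynomial HomogeneousLocalization

noncomputable section

namespace Groth.L06.ProjEmbed

open Groth.L18.ProjPt (awayHom awayHom_mk awayHom_comp pt pt_eq_of_scale)
open Groth.L22.LinProj (subst)
open Groth.L22.Reg (Form)
open Groth.L18.PS (X_mem)

variable {k : Type u} [Field k] {N r : ℕ}

local notation "𝒜" => CohB1.polyGrading N k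
local notation "𝒬" => CohB1.polyGrading r k

theorem aeval_comp_linear {n : ℕ} {B C : Type u} [CommRing B] [CommRing C] [Algebra k B] [Algebra k C]
    (T : B →ₗ[k] C) (v : Fin (n + 1) → B) {P : MvPolynomial (Fin (n + 1)) k}
    (hP : P ∈ CohB1.polyGrading n k 1) : aeval (fun i => T (v i)) P = T (aeval v P) := by
  have hP' : P ∈ Submodule.span k (Set.range (X : Fin (n + 1) → MvPolynomial (Fin (n + 1)) k)) := by
    rw [← homogeneousSubmodule_one_eq_span_X]; exact hP
  clear hP
  induction hP' using Submodule.span_induction with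
  | mem P hP => obtain ⟨i, rfl⟩ := hP; simp
  | zero => simp
  | add P Q _ _ h1 h2 => rw [map_add, map_add, map_add, h1, h2]
  | smul c P _ h => rw [map_smul, map_smul, map_smul, h]

/-- Evaluation at coordinates. -/
abbrev ev {n : ℕ} {C : Type u} [CommRing C] [Algebra k C] (v : Fin (n + 1) → C) :
    MvPolynomial (Fin (n + 1)) k →+* C :=
  eval₂Hom (algebraMap k C) v

theorem ev_eq_aeval {n : ℕ} {C : Type u} [CommRing C] [Algebra k C] (v : Fin (n + 1) → C)
    (P : MvPolynomial (Fin (n + 1)) k) : ev v P = aeval v P := rfl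

/-- A change of frame does not change a point. -/
theorem pt_frame {C : Type u} [CommRing C] (Φ : MvPolynomial (Fin (N + 1)) k →+* C) {p q : MvPolynomial (Fin (N + 1)) k}
    (hp : p ∈ 𝒜 1) (hq : q ∈ 𝒜 1) (hpu : IsUnit (Φ p)) (hqu : IsUnit (Φ q)) :
    pt (C := CommRingCat.of C) 𝒜 Φ hp one_pos hpu = pt (C := CommRingCat.of C) 𝒜 Φ hq one_pos hqu :=
  pt_eq_of_scale (C := CommRingCat.of C) Φ Φ 1 (fun d x _ => by simp) hp hq hpu hqu

theorem pt_congr {C : Type u} [CommRing C] {Φ Φ' : MvPolynomial (Fin (N + 1)) k →+* C} (e : Φ = Φ')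
    {p : MvPolynomial (Fin (N + 1)) k} (hp : p ∈ 𝒜 1) (hpu : IsUnit (Φ p)) :
    pt (C := CommRingCat.of C) 𝒜 Φ hp one_pos hpu =
      pt (C := CommRingCat.of C) 𝒜 Φ' hp one_pos (e ▸ hpu) := by
  subst e; rfl

theorem map_mk' (φ : 𝒬 →+*ᵍ 𝒜) {t : MvPolynomial (Fin (r + 1)) k} (ht : t ∈ 𝒬 1) (e : ℕ)
    (F : MvPolynomial (Fin (r + 1)) k) (hF : F ∈ 𝒬 (e • 1)) :
    Away.map φ t (Away.mk 𝒬 ht e F hF) = Away.mk 𝒜 (φ.2 ht) e (φ F) (φ.2 hF) := by
  apply HomogeneousLocalization.val_injective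
  simp only [Away.map, Away.mk, HomogeneousLocalization.map_mk, HomogeneousLocalization.val_mk]
  congr 1
  exact Subtype.ext (map_pow φ t e)

theorem awayHom_map (φ : 𝒬 →+*ᵍ 𝒜) {C : Type u} [CommRing C] (Φ : MvPolynomial (Fin (N + 1)) k →+* C)
    {t : MvPolynomial (Fin (r + 1)) k} (ht : t ∈ 𝒬 1) (hu : IsUnit (Φ (φ t))) :
    (awayHom 𝒜 Φ (φ t) hu).comp (Away.map φ t) = awayHom 𝒬 (Φ.comp φ.toRingHom) t hu := by
  ext z
  obtain ⟨e, F, hF, rfl⟩ := Away.mk_surjective 𝒬 ht z
  refine (hu.pow e).mul_left_inj.1 ?_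
  rw [RingHom.comp_apply, map_mk' φ ht e F hF, awayHom_mk Φ hu (φ.2 ht) e (φ F) (φ.2 hF)]
  exact (awayHom_mk (Φ.comp φ.toRingHom) hu ht e F hF).symm

theorem map_scal (f : Fin (r + 1) → Form N k) (t : MvPolynomial (Fin (r + 1)) k) (c : k) :
    Away.map (subst f) t (scal t c) = scal (subst f t) c := by
  apply HomogeneousLocalization.val_injective
  simp only [scal, RingHom.comp_apply, HomogeneousLocalization.fromZeroRingHom, Away.map,
    HomogeneousLocalization.map_mk, RingHom.coe_mk, MonoidHom.coe_mk, OneHom.coe_mk,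
    HomogeneousLocalization.val_mk]
  congr 1
  · exact Groth.L22.LinProj.subst_C f c
  · exact Subtype.ext (map_one (subst f))

theorem subst_X (f : Fin (r + 1) → Form N k) (m : Fin (r + 1)) : subst f (X m) = (f m).1 :=
  MvPolynomial.aeval_X _ m

theorem ev_comp_subst (f : Fin (r + 1) → Form N k) {C : Type u} [CommRing C] [Algebra k C] (v : Fin (N + 1) → C) :
    (ev v).comp (subst f).toRingHom = ev (fun m => ev v (f m).1) := by
  refine MvPolynomial.ringHom_ext (fun c => ?_) fun m => ?_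
  · show ev v (subst f (MvPolynomial.C c)) = _
    rw [Groth.L22.LinProj.subst_C]; simp
  · show ev v (subst f (X m)) = _
    rw [subst_X]; simp

section Sub

variable {X₀ : Scheme.{u}} (ι : X₀ ⟶ CohB1.ProjSpace N k) [IsClosedImmersion ι]
  (p : X₀ ⟶ Spec (CommRingCat.of k))

/-- The coordinates on a chart. -/
def crdX {h : MvPolynomial (Fin (N + 1)) k} (hh : h ∈ CohB1.polyGrading N k 1) (i : Fin (N + 1)) : Ring' ι hh :=
  Ideal.Quotient.mk _ (crd hh i)

theorem algHom_comp_scal {h : MvPolynomial (Fin (N + 1)) k} (hh : h ∈ CohB1.polyGrading N k 1)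
    {C : Type u} [CommRing C] [Algebra k C] (θ : Ring' ι hh →ₐ[k] C) :
    (θ.toRingHom.comp (Ideal.Quotient.mk (idl ι hh))).comp (scal h) = algebraMap k C :=
  RingHom.ext fun c => θ.commutes c

theorem ev_chart_self {h : MvPolynomial (Fin (N + 1)) k} (hh : h ∈ CohB1.polyGrading N k 1)
    {C : Type u} [CommRing C] [Algebra k C] (θ : Ring' ι hh →ₐ[k] C) :
    ev (fun i => θ (crdX ι hh i)) h = 1 := by
  have h1 := eval_self hh (θ.toRingHom.comp (Ideal.Quotient.mk (idl ι hh)))
  rw [algHom_comp_scal] at h1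
  exact h1

/-- Points of a chart in coordinates. -/
theorem chart_pt {h : MvPolynomial (Fin (N + 1)) k} (hh : h ∈ CohB1.polyGrading N k 1)
    {C : Type u} [CommRing C] [Algebra k C] (θ : Ring' ι hh →ₐ[k] C) :
    Spec.map (CommRingCat.ofHom θ.toRingHom) ≫ chX ι hh ≫ ι =
      pt (C := CommRingCat.of C) 𝒜 (ev fun i => θ (crdX ι hh i)) hh one_pos
        (by rw [ev_chart_self ι hh θ]; exact isUnit_one) := by
  rw [chX_ι, ← Spec.map_comp_assoc, pt]
  congr 2
  refine CommRingCat.hom_ext ((eq_awayHom hh (θ.toRingHom.comp (Ideal.Quotient.mk (idl ι hh)))).trans ?_)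
  congr 1
  rw [algHom_comp_scal]
  rfl

/-- Lifting points in coordinates to a chart. -/
theorem exists_lift_pt {h : MvPolynomial (Fin (N + 1)) k} (hh : h ∈ CohB1.polyGrading N k 1)
    {C : Type u} [CommRing C] [Algebra k C] (v : Fin (N + 1) → C) (hu : IsUnit (ev v h))
    (a : Spec (CommRingCat.of C) ⟶ X₀) (ha : a ≫ ι = pt (C := CommRingCat.of C) 𝒜 (ev v) hh one_pos hu) :
    ∃ χ : Ring' ι hh →ₐ[k] C, a = Spec.map (CommRingCat.ofHom χ.toRingHom) ≫ chX ι hh ∧
      χ.toRingHom.comp (Ideal.Quotient.mk (idl ι hh)) = awayHom 𝒜 (ev v) h hu ∧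
      ∀ i, χ (crdX ι hh i) * ev v h = v i := by
  obtain ⟨χ, hχ, hac⟩ := exists_lift ι hh a (awayHom 𝒜 (ev v) h hu) ha
  have hc : ∀ c : k, χ (algebraMap k (Ring' ι hh) c) = algebraMap k C c := fun c =>
    (RingHom.congr_fun hχ (scal h c)).trans (awayHom_scal (algebraMap k C) v hu c)
  refine ⟨{ χ with commutes' := hc }, hac, hχ, fun i => ?_⟩
  show χ (Ideal.Quotient.mk _ (crd hh i)) * _ = _
  rw [← RingHom.comp_apply, hχ]
  exact awayHom_crd (algebraMap k C) v hh hu i

variable (f : Fin (r + 1) → Form N k)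

/-- The secant condition. -/
def SecAvoid : Prop :=
  ∀ (K : Type u) [Field K] [Algebra k K] (j j' : Fin (N + 1)) (χ : Ring' ι (X_mem (R := k) N j) →ₐ[k] K)
    (χ' : Ring' ι (X_mem (R := k) N j') →ₐ[k] K) (a b : K),
    (∀ l, aeval (fun i => a * χ (crdX ι (X_mem N j) i) + b * χ' (crdX ι (X_mem N j') i)) (f l).1 = 0) →
      ∀ i, a * χ (crdX ι (X_mem N j) i) + b * χ' (crdX ι (X_mem N j') i) = 0

/-- The tangent condition. -/
def TanAvoid : Prop :=
  ∀ (K : Type u) [Field K] [Algebra k K] (j : Fin (N + 1))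
    (θ : Ring' ι (X_mem (R := k) N j) →ₐ[k] DualNumber K) (a : K),
    (∀ l, aeval (fun i => a * TrivSqZeroExt.fst (θ (crdX ι (X_mem N j) i)) +
      TrivSqZeroExt.snd (θ (crdX ι (X_mem N j) i))) (f l).1 = 0) →
      ∀ i, a * TrivSqZeroExt.fst (θ (crdX ι (X_mem N j) i)) + TrivSqZeroExt.snd (θ (crdX ι (X_mem N j) i)) = 0

variable {ι p f}

theorem crd_self_one (j : Fin (N + 1)) {C : Type u} [CommRing C] [Algebra k C]
    (χ : Ring' ι (X_mem (R := k) N j) →ₐ[k] C) : χ (crdX ι (X_mem N j) j) = 1 := by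
  have h := ev_chart_self ι (X_mem N j) χ
  rwa [eval₂Hom_X'] at h

theorem exists_coords (hp : ι ≫ CohB1.ProjSpace.toSpec N k = p) {K : Type u} [Field K] [Algebra k K]
    (a : Spec (CommRingCat.of K) ⟶ X₀) (ha : a ≫ p = Spec.map (CommRingCat.ofHom (algebraMap k K))) :
    ∃ (j : Fin (N + 1)) (χ : Ring' ι (X_mem (R := k) N j) →ₐ[k] K),
      a = Spec.map (CommRingCat.ofHom χ.toRingHom) ≫ chX ι (X_mem N j) := by
  haveI : Nonempty (Spec (CommRingCat.of K)) := inferInstanceAs (Nonempty (PrimeSpectrum K))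
  haveI : Subsingleton (Spec (CommRingCat.of K)) := inferInstanceAs (Subsingleton (PrimeSpectrum K))
  let x₀ : Spec (CommRingCat.of K) := Classical.arbitrary _
  have hx : ι (a x₀) ∈ (⨆ i : Fin (N + 1), Proj.basicOpen 𝒜 (X i)) := by
    rw [Groth.L18.PS.iSup_chart]; trivial
  obtain ⟨j, hj⟩ := Opens.mem_iSup.1 hx
  have hr : Set.range a ⊆ Set.range (chX ι (X_mem (R := k) N j)) := by
    rintro _ ⟨x, rfl⟩
    rw [Subsingleton.elim x x₀]
    exact mem_range ι (X_mem N j) _ hj
  let χ := Spec.preimage (IsOpenImmersion.lift (chX ι (X_mem (R := k) N j)) a hr)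
  have hχ : a = Spec.map χ ≫ chX ι (X_mem (R := k) N j) := by
    rw [Spec.map_preimage, IsOpenImmersion.lift_fac]
  have hc : χ.hom.comp (algebraMap k _) = algebraMap k K := by
    have h1 : Spec.map (CommRingCat.ofHom (algebraMap k _) ≫ χ) = Spec.map (CommRingCat.ofHom (algebraMap k K)) := by
      rw [Spec.map_comp, ← chX_toSpec, ← ha, ← hp, hχ, Category.assoc]
    exact congrArg CommRingCat.Hom.hom (Spec.map_injective h1)
  exact ⟨j, { χ.hom with commutes' := RingHom.congr_fun hc }, hχ⟩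

theorem exists_form_ne_zero (hS : SecAvoid ι f) {K : Type u} [Field K] [Algebra k K] {j : Fin (N + 1)}
    (χ : Ring' ι (X_mem (R := k) N j) →ₐ[k] K) :
    ∃ m, ev (fun i => χ (crdX ι (X_mem N j) i)) (f m).1 ≠ 0 := by
  by_contra hall
  push Not at hall
  have h := hS K j j χ χ 1 0 (fun l => by
    rw [show (fun i => (1 : K) * χ (crdX ι (X_mem N j) i) + 0 * χ (crdX ι (X_mem N j) i)) =
      fun i => χ (crdX ι (X_mem N j) i) from funext fun i => by simp]
    exact hall l) j
  rw [crd_self_one] at h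
  simp at h

theorem exists_lift_form {K : Type u} [Field K] [Algebra k K] {j : Fin (N + 1)}
    (χ : Ring' ι (X_mem (R := k) N j) →ₐ[k] K) (a : Spec (CommRingCat.of K) ⟶ X₀)
    (ha : a = Spec.map (CommRingCat.ofHom χ.toRingHom) ≫ chX ι (X_mem N j)) (m : Fin (r + 1))
    (hm : ev (fun i => χ (crdX ι (X_mem N j) i)) (f m).1 ≠ 0) :
    ∃ hu, ∃ χ' : Ring' ι ((subst f).2 (X_mem (R := k) r m)) →ₐ[k] K,
      a = Spec.map (CommRingCat.ofHom χ'.toRingHom) ≫ chX ι ((subst f).2 (X_mem (R := k) r m)) ∧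
      χ'.toRingHom.comp (Ideal.Quotient.mk (idl ι ((subst f).2 (X_mem (R := k) r m)))) =
        awayHom 𝒜 (ev fun i => χ (crdX ι (X_mem N j) i)) (subst f (X m)) hu := by
  have hu : IsUnit (ev (fun i => χ (crdX ι (X_mem N j) i)) (subst f (X m))) := by
    rw [subst_X]; exact isUnit_iff_ne_zero.2 hm
  obtain ⟨χ', h1, h2, -⟩ := exists_lift_pt ι ((subst f).2 (X_mem (R := k) r m)) _ hu a (by
    rw [ha, Category.assoc, chart_pt]
    exact pt_frame _ _ _ _ _)
  exact ⟨hu, χ', h1, h2⟩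

theorem mem_range_charts (hp : ι ≫ CohB1.ProjSpace.toSpec N k = p) (hS : SecAvoid ι f) (x : X₀) :
    ∃ m, x ∈ Set.range (chX ι ((subst f).2 (X_mem (R := k) r m))) := by
  letI : Algebra k (X₀.residueField x) := (Spec.preimage (X₀.fromSpecResidueField x ≫ p)).hom.toAlgebra
  obtain ⟨j, χ, hχ⟩ := exists_coords (K := X₀.residueField x) hp (X₀.fromSpecResidueField x)
    (Spec.map_preimage (X₀.fromSpecResidueField x ≫ p)).symm
  obtain ⟨m, hm⟩ := exists_form_ne_zero hS χ
  obtain ⟨_, χ', h1, -⟩ := exists_lift_form χ _ hχ m hm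
  refine ⟨m, ?_⟩
  have : x ∈ Set.range (X₀.fromSpecResidueField x) := by
    rw [Scheme.range_fromSpecResidueField]; rfl
  obtain ⟨y, hy⟩ := this
  refine ⟨Spec.map (CommRingCat.ofHom χ'.toRingHom) y, ?_⟩
  rw [← Scheme.Hom.comp_apply, ← h1]
  exact hy

theorem range_subset_dom (hp : ι ≫ CohB1.ProjSpace.toSpec N k = p) (hS : SecAvoid ι f) :
    Set.range ι ⊆ Set.range (PCone.dom (subst f)).ι := by
  rintro _ ⟨x, rfl⟩
  obtain ⟨m, y, rfl⟩ := mem_range_charts hp hS x
  refine PCone.range_awayι_subset (subst f) (X_mem (R := k) r m) one_pos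
    ⟨Spec.map (CommRingCat.ofHom (Ideal.Quotient.mk (idl ι ((subst f).2 (X_mem (R := k) r m))))) y, ?_⟩
  exact (congrArg (fun g : Spec _ ⟶ CohB1.ProjSpace N k => g y) (chX_ι ι ((subst f).2 (X_mem (R := k) r m)))).symm

/-- The chart equation of the projection. -/
theorem exists_projection (hp : ι ≫ CohB1.ProjSpace.toSpec N k = p) (hS : SecAvoid ι f) :
    ∃ π : X₀ ⟶ CohB1.ProjSpace r k, IsFinite π ∧ π ≫ CohB1.ProjSpace.toSpec r k = p ∧
      ∀ m, chX ι ((subst f).2 (X_mem (R := k) r m)) ≫ π =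
        Spec.map (CommRingCat.ofHom ((Ideal.Quotient.mk (idl ι ((subst f).2 (X_mem (R := k) r m)))).comp
          (Away.map (subst f) (X m)))) ≫ Groth.L18.PS.chart r k m := by
  obtain ⟨q, hq, -⟩ := Groth.L18.Cones.existsUnique_pmap (subst f)
  haveI hqa : IsAffineHom q := Groth.L18.Cones.pmap_isAffineHom (subst f) q hq
  let U : (CohB1.ProjSpace N k).Opens := PCone.dom (subst f)
  let l : X₀ ⟶ U.toScheme := IsOpenImmersion.lift U.ι ι (range_subset_dom hp hS)
  have hl : l ≫ U.ι = ι := IsOpenImmersion.lift_fac _ _ _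
  haveI : IsClosedImmersion (l ≫ U.ι) := by rw [hl]; infer_instance
  haveI : IsClosedImmersion l := IsClosedImmersion.of_comp l U.ι
  have heq : ∀ m, chX ι ((subst f).2 (X_mem (R := k) r m)) ≫ l ≫ q =
      Spec.map (CommRingCat.ofHom ((Ideal.Quotient.mk (idl ι ((subst f).2 (X_mem (R := k) r m)))).comp
        (Away.map (subst f) (X m)))) ≫ Groth.L18.PS.chart r k m := by
    intro m
    have h1 : chX ι ((subst f).2 (X_mem (R := k) r m)) ≫ l =
        Spec.map (CommRingCat.ofHom (Ideal.Quotient.mk (idl ι ((subst f).2 (X_mem (R := k) r m))))) ≫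
          PCone.chart (subst f) (X_mem (R := k) r m) one_pos := by
      rw [← cancel_mono U.ι, Category.assoc, hl, chX_ι, Category.assoc]
      exact congrArg _ (IsOpenImmersion.lift_fac _ _ _).symm
    rw [← Category.assoc, h1, Category.assoc, hq 1 (X m) one_pos (X_mem r m), ← Spec.map_comp_assoc]
    rfl
  have hbase : (l ≫ q) ≫ CohB1.ProjSpace.toSpec r k = p := by
    refine Scheme.hom_ext_of_forall _ _ fun x => ?_
    obtain ⟨m, y, hy⟩ := mem_range_charts hp hS x
    refine ⟨(chX ι ((subst f).2 (X_mem (R := k) r m))).opensRange, ⟨y, hy⟩, ?_⟩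
    rw [← cancel_epi (chX ι ((subst f).2 (X_mem (R := k) r m))).isoOpensRange.hom]
    simp only [Scheme.Hom.isoOpensRange_hom_ι_assoc]
    rw [← Category.assoc (chX _ _), heq m, Category.assoc, Groth.L22.LinProj.awayι_toSpec, ← Spec.map_comp,
      ← hp, chX_toSpec]
    congr 1
    exact CommRingCat.hom_ext (RingHom.ext fun c => congrArg (Ideal.Quotient.mk _) (map_scal f (X m) c))
  refine ⟨l ≫ q, ?_, hbase, heq⟩
  haveI : IsProper (CohB1.ProjSpace.toSpec N k) := Groth.L22.PDual.proper N k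
  haveI : IsProper (CohB1.ProjSpace.toSpec r k) := Groth.L22.PDual.proper r k
  haveI : IsProper ((l ≫ q) ≫ CohB1.ProjSpace.toSpec r k) := by rw [hbase, ← hp]; infer_instance
  haveI : IsProper (l ≫ q) := IsProper.of_comp (l ≫ q) (CohB1.ProjSpace.toSpec r k)
  haveI : IsAffineHom (l ≫ q) := MorphismProperty.comp_mem _ l q inferInstance hqa
  exact IsFinite.iff_isProper_and_isAffineHom.2 ⟨inferInstance, inferInstance⟩

variable {π : X₀ ⟶ CohB1.ProjSpace r k}

theorem comp_proj_eq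
    (hπ : ∀ m, chX ι ((subst f).2 (X_mem (R := k) r m)) ≫ π =
      Spec.map (CommRingCat.ofHom ((Ideal.Quotient.mk (idl ι ((subst f).2 (X_mem (R := k) r m)))).comp
        (Away.map (subst f) (X m)))) ≫ Groth.L18.PS.chart r k m)
    {K : Type u} [Field K] [Algebra k K] {j : Fin (N + 1)}
    (χ : Ring' ι (X_mem (R := k) N j) →ₐ[k] K) (a : Spec (CommRingCat.of K) ⟶ X₀)
    (ha : a = Spec.map (CommRingCat.ofHom χ.toRingHom) ≫ chX ι (X_mem N j)) (m : Fin (r + 1))
    (hm : IsUnit (ev (fun i => χ (crdX ι (X_mem N j) i)) (f m).1)) :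
    a ≫ π = Groth.L18.PS.tuplePt (B := CommRingCat.of K) (algebraMap k K)
      (fun l => ev (fun i => χ (crdX ι (X_mem N j) i)) (f l).1) m hm := by
  obtain ⟨hu, χ', h1, h2⟩ := exists_lift_form χ a ha m hm.ne_zero
  rw [h1, Category.assoc, hπ m, ← Spec.map_comp_assoc, Groth.L18.PS.tuplePt]
  congr 2
  refine CommRingCat.hom_ext ?_
  show (χ'.toRingHom.comp (Ideal.Quotient.mk _)).comp (Away.map (subst f) (X m)) = _
  rw [h2, awayHom_map (subst f) _ (X_mem r m) hu]
  show awayHom 𝒬 _ (X m) _ = awayHom 𝒬 _ (X m) _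
  congr 1
  exact ev_comp_subst f _

/-- Points with the same image are equal. -/
theorem universallyInjective_proj (hp : ι ≫ CohB1.ProjSpace.toSpec N k = p) (hS : SecAvoid ι f)
    (hπb : π ≫ CohB1.ProjSpace.toSpec r k = p)
    (hπ : ∀ m, chX ι ((subst f).2 (X_mem (R := k) r m)) ≫ π =
      Spec.map (CommRingCat.ofHom ((Ideal.Quotient.mk (idl ι ((subst f).2 (X_mem (R := k) r m)))).comp
        (Away.map (subst f) (X m)))) ≫ Groth.L18.PS.chart r k m) : UniversallyInjective π := by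
  refine ((tfae_universallyInjective π).out 0 1 (a := UniversallyInjective π) (b := ∀ (K : Type u) [Field K], Function.Injective (fun g : Spec (.of K) ⟶ X₀ ↦ g ≫ π)) rfl rfl).2 ?_
  intro K _ a b hab
  simp only at hab
  letI : Algebra k K := (Spec.preimage (a ≫ p)).hom.toAlgebra
  have hap : a ≫ p = Spec.map (CommRingCat.ofHom (algebraMap k K)) := (Spec.map_preimage (a ≫ p)).symm
  have hbp : b ≫ p = Spec.map (CommRingCat.ofHom (algebraMap k K)) := by
    rw [← hap, ← hπb, ← Category.assoc, ← Category.assoc, hab]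
  obtain ⟨j, χ, hχ⟩ := exists_coords hp a hap
  obtain ⟨j', χ', hχ'⟩ := exists_coords hp b hbp
  obtain ⟨m, hm⟩ := exists_form_ne_zero hS χ
  obtain ⟨m', hm'⟩ := exists_form_ne_zero hS χ'
  have hab' : Groth.L18.PS.tuplePt (B := CommRingCat.of K) (algebraMap k K)
        (fun l => ev (fun i => χ (crdX ι (X_mem N j) i)) (f l).1) m (isUnit_iff_ne_zero.2 hm) =
      Groth.L18.PS.tuplePt (B := CommRingCat.of K) (algebraMap k K)
        (fun l => ev (fun i => χ' (crdX ι (X_mem N j') i)) (f l).1) m' (isUnit_iff_ne_zero.2 hm') := by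
    rw [← comp_proj_eq hπ χ a hχ, ← comp_proj_eq hπ χ' b hχ', hab]
  obtain ⟨c, hc⟩ := Groth.L18.PS.exists_smul_of_tuplePt_eq _ _ _ _ _ _ hab'
  let T : K × K →ₗ[k] K :=
    { toFun := fun z => (c : K) * z.1 + -1 * z.2
      map_add' := fun x y => by simp only [Prod.fst_add, Prod.snd_add]; ring
      map_smul' := fun s x => by
        show (c : K) * (s • x.1) + -1 * (s • x.2) = s • ((c : K) * x.1 + -1 * x.2)
        simp only [Algebra.smul_def]; ring }
  have hz := hS K j j' χ χ' (c : K) (-1) fun l => by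
    have h1 := aeval_comp_linear T (fun i => (χ (crdX ι (X_mem N j) i), χ' (crdX ι (X_mem N j') i))) (f l).2
    refine h1.trans ?_
    have e1 : (aeval (fun i => (χ (crdX ι (X_mem N j) i), χ' (crdX ι (X_mem N j') i))) (f l).1).1 =
        ev (fun i => χ (crdX ι (X_mem N j) i)) (f l).1 := by
      rw [ev_eq_aeval, ← AlgHom.fst_apply (R := k), ← AlgHom.comp_apply, comp_aeval]; rfl
    have e2 : (aeval (fun i => (χ (crdX ι (X_mem N j) i), χ' (crdX ι (X_mem N j') i))) (f l).1).2 =
        ev (fun i => χ' (crdX ι (X_mem N j') i)) (f l).1 := by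
      rw [ev_eq_aeval, ← AlgHom.snd_apply (R := k), ← AlgHom.comp_apply, comp_aeval]; rfl
    show (c : K) * _ + -1 * _ = 0
    rw [e1, e2, hc l]
    ring
  have hzc : (fun i => χ' (crdX ι (X_mem N j') i)) = fun i => (c : K) * χ (crdX ι (X_mem N j) i) :=
    funext fun i => by linear_combination -(hz i)
  rw [← cancel_mono ι, hχ, hχ', Category.assoc, Category.assoc, chart_pt, chart_pt]
  refine (pt_scale (C := CommRingCat.of K) (algebraMap k K) _ (c : K) (X_mem N j) (X_mem N j') _ ?_).trans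
    (pt_congr (congrArg (fun w => ev w) hzc.symm) _ _)
  rw [eval₂Hom_X', ← congrFun hzc j', crd_self_one]
  exact isUnit_one

end Sub

end Groth.L06.ProjEmbed
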