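import Groth.Agent.L06.ProjEmbed.Proj
import Mathlib.RingTheory.Kaehler.Basic
import Mathlib.RingTheory.Nakayama

/-!
A projection avoiding tangent lines is formally unramified.
-/

set_option autoImplicit false
set_option linter.style.haveILetI false
set_option maxSynthPendingDepth 3
set_option backward.isDefEq.respectTransparency false
set_option backward.isDefEq.respectTransparency.types false

universe u

open CategoryTheory CategoryTheory.Limits AlgebraicGeometry TopologicalSpace MvPolynomial HomogeneousLocalization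

noncomputable section

namespace Groth.L06.ProjEmbed

open Groth.L18.ProjPt (awayHom pt)
open Groth.L22.LinProj (subst)
open Groth.L22.Reg (Form)
open Groth.L18.PS (X_mem)

variable {k : Type u} [Field k] {N r : ℕ}

/-- Formally unramified from the absence of derivations into residue fields. -/
theorem formallyUnramified_of_derivations (R B : Type u) [CommRing R] [CommRing B] [Algebra R B]
    [Algebra.EssFiniteType R B]
    (h : ∀ (q : Ideal B), q.IsMaximal → ∀ D : Derivation R B (B ⧸ q), ∀ b, D b = 0) :
    Algebra.FormallyUnramified R B := by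
  rw [Algebra.formallyUnramified_iff]
  have hann : Module.annihilator B (KaehlerDifferential R B) = ⊤ := by
    by_contra hne
    obtain ⟨q, hq, hle⟩ := Ideal.exists_le_maximal _ hne
    haveI := hq
    letI : Field (B ⧸ q) := Ideal.Quotient.field q
    have htop : (⊤ : Submodule B (KaehlerDifferential R B)) ≤ q • ⊤ := by
      intro x _
      let V := KaehlerDifferential R B ⧸ (q • ⊤ : Submodule B (KaehlerDifferential R B))
      have hv : (Submodule.Quotient.mk x : V) = 0 := by
        refine (Module.forall_dual_apply_eq_zero_iff (B ⧸ q) _).1 fun φ => ?_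
        let ψ : KaehlerDifferential R B →ₗ[B] B ⧸ q := (φ.restrictScalars B).comp (Submodule.mkQ _)
        have hψ : ψ = 0 := by
          refine Derivation.liftKaehlerDifferential_unique _ _ (Derivation.ext fun b => ?_)
          rw [h q hq (ψ.compDer (KaehlerDifferential.D R B)) b]
          simp
        exact LinearMap.congr_fun hψ x
      exact (Submodule.Quotient.mk_eq_zero _).1 hv
    obtain ⟨s, hs, hs0⟩ := Submodule.exists_sub_one_mem_and_smul_eq_zero_of_fg_of_le_smul q ⊤
      (Module.Finite.fg_top) htop
    have hs' : s ∈ q := hle (Module.mem_annihilator.2 fun m => hs0 m trivial)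
    exact hq.ne_top ((Ideal.eq_top_iff_one q).2 (by simpa using q.sub_mem hs' hs))
  exact ⟨fun x y => by
    have h1 : ∀ z : KaehlerDifferential R B, z = 0 := fun z => by
      have := Module.mem_annihilator.1 (hann.ge (Submodule.mem_top (x := (1 : B)))) z
      rwa [one_smul] at this
    rw [h1 x, h1 y]⟩

variable {X₀ : Scheme.{u}} {ι : X₀ ⟶ CohB1.ProjSpace N k} [IsClosedImmersion ι] {f : Fin (r + 1) → Form N k}

theorem derivation_eq_zero (hT : TanAvoid ι f) (m : Fin (r + 1)) {K : Type u} [Field K] [Algebra k K]
    (θ : Ring' ι ((subst f).2 (X_mem (R := k) r m)) →ₐ[k] DualNumber K)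
    (hθ : ∀ z, TrivSqZeroExt.snd (θ (Ideal.Quotient.mk _ (Away.map (subst f) (X m) z))) = 0) (b) :
    TrivSqZeroExt.snd (θ b) = 0 := by
  let hh := (subst f).2 (X_mem (R := k) r m)
  let v : Fin (N + 1) → DualNumber K := fun i => θ (crdX ι hh i)
  have hself : ev v (subst f (X m)) = 1 := ev_chart_self ι hh θ
  let T₁ : DualNumber K →ₗ[k] K := (TrivSqZeroExt.fstHom k K K).toLinearMap
  let T₂ : DualNumber K →ₗ[k] K := (TrivSqZeroExt.sndHom K K).restrictScalars k
  have hev : ∀ F, θ (Ideal.Quotient.mk _ (eval₂Hom (scal (subst f (X m))) (crd hh) F)) = ev v F := fun F => by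
    show ((θ.toRingHom.comp (Ideal.Quotient.mk (idl ι hh))).comp (eval₂Hom (scal _) (crd hh))) F = _
    rw [MvPolynomial.comp_eval₂Hom]
    erw [algHom_comp_scal]
    rfl
  obtain ⟨j, hj⟩ : ∃ j, TrivSqZeroExt.fst (v j) ≠ 0 := by
    by_contra hall
    push Not at hall
    have h1 := aeval_comp_linear T₁ v ((subst f).2 (X_mem (R := k) r m))
    have h2 := aeval_comp_linear (0 : DualNumber K →ₗ[k] K) v ((subst f).2 (X_mem (R := k) r m))
    rw [show (fun i => T₁ (v i)) = fun i => (0 : DualNumber K →ₗ[k] K) (v i) from funext hall, h2] at h1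
    have h3 : (0 : K) = T₁ (1 : DualNumber K) := h1.trans (congrArg T₁ hself)
    simp [T₁] at h3
  have hju : IsUnit (v j) := TrivSqZeroExt.isUnit_iff_isUnit_fst.2 (isUnit_iff_ne_zero.2 hj)
  obtain ⟨θj, -, -, hθj⟩ := exists_lift_pt ι (X_mem (R := k) N j) v (by rwa [eval₂Hom_X']) _ (by
    rw [Category.assoc, chart_pt]
    exact pt_frame _ _ _ _ _)
  simp only [eval₂Hom_X'] at hθj
  let w : Fin (N + 1) → DualNumber K := fun i => θj (crdX ι (X_mem N j) i)
  have hf : ∀ l, T₂ (aeval v (f l).1) = 0 := fun l => by
    have h1 : (Away.map (subst f) (X m)) (Away.mk (CohB1.polyGrading r k) (X_mem r m) 1 (X l)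
        (by simpa using X_mem r l)) = eval₂Hom (scal (subst f (X m))) (crd hh) (f l).1 := by
      rw [map_mk' (subst f) (X_mem r m), mk_eq_eval]
      simp only [subst_X]
      rfl
    have h2 := hθ (Away.mk (CohB1.polyGrading r k) (X_mem r m) 1 (X l) (by simpa using X_mem r l))
    rw [h1, hev] at h2
    exact h2
  let e := TrivSqZeroExt.fst (v j)
  let a : K := TrivSqZeroExt.snd (v j) / e
  have hsnd : ∀ i, T₂ (v i) = e * (a * TrivSqZeroExt.fst (w i) + TrivSqZeroExt.snd (w i)) := fun i => by
    show TrivSqZeroExt.snd (v i) = _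
    rw [← hθj i, DualNumber.snd_mul]
    show TrivSqZeroExt.fst (w i) * _ + TrivSqZeroExt.snd (w i) * e = _
    simp only [a]
    field_simp [show e ≠ 0 from hj]
  have htan := hT K j θj a fun l => by
    have h1 := aeval_comp_linear T₂ v (f l).2
    rw [hf l, show (fun i => T₂ (v i)) =
      fun i => e * (a * TrivSqZeroExt.fst (w i) + TrivSqZeroExt.snd (w i)) from funext hsnd] at h1
    rw [← ev_eq_aeval] at h1
    rw [ev, Groth.L18.PS.eval_smul (algebraMap k K) _ e ((mem_homogeneousSubmodule 1 _).1 (f l).2), pow_one] at h1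
    exact (mul_eq_zero.1 h1).resolve_left hj
  have hv0 : ∀ i, v i = TrivSqZeroExt.inlHom K K (TrivSqZeroExt.fst (v i)) := fun i =>
    TrivSqZeroExt.ext rfl ((hsnd i).trans (by rw [htan i, mul_zero]; rfl))
  obtain ⟨b, rfl⟩ := Ideal.Quotient.mk_surjective b
  obtain ⟨e', F, hF, rfl⟩ := Away.mk_surjective _ hh b
  rw [mk_eq_eval hh e' F hF]
  erw [hev]
  show TrivSqZeroExt.snd (eval₂Hom (algebraMap k (DualNumber K)) v F) = 0
  rw [funext hv0, show algebraMap k (DualNumber K) = (TrivSqZeroExt.inlHom K K).comp (algebraMap k K) from rfl,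
    ← MvPolynomial.comp_eval₂Hom]
  rfl

theorem chart_formallyUnramified (hT : TanAvoid ι f) (m : Fin (r + 1))
    [Algebra.FiniteType k (Ring' ι ((subst f).2 (X_mem (R := k) r m)))] :
    ((Ideal.Quotient.mk (idl ι ((subst f).2 (X_mem (R := k) r m)))).comp
      (Away.map (subst f) (X m))).FormallyUnramified := by
  let B := Ring' ι ((subst f).2 (X_mem (R := k) r m))
  let R := Away (CohB1.polyGrading r k) (X m : MvPolynomial (Fin (r + 1)) k)
  let ρ : R →+* B := (Ideal.Quotient.mk _).comp (Away.map (subst f) (X m))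
  letI : Algebra R B := ρ.toAlgebra
  letI : Algebra k R := (scal (X m : MvPolynomial (Fin (r + 1)) k)).toAlgebra
  haveI : @IsScalarTower k R B Algebra.toSMul Algebra.toSMul Algebra.toSMul :=
    IsScalarTower.of_algebraMap_eq (R := k) (S := R) (A := B) fun c =>
      (congrArg (Ideal.Quotient.mk _) (map_scal f (X m) c)).symm
  haveI : Algebra.FiniteType R B := Algebra.FiniteType.of_restrictScalars_finiteType k R B
  show Algebra.FormallyUnramified R B
  refine formallyUnramified_of_derivations R B fun q hq D b => ?_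
  letI : Field (B ⧸ q) := Ideal.Quotient.field q
  let θ : B →ₐ[k] DualNumber (B ⧸ q) :=
    { toFun := fun x => TrivSqZeroExt.inl (Ideal.Quotient.mk q x) + TrivSqZeroExt.inr (D x)
      map_one' := by ext <;> simp
      map_mul' := fun x y => by
        ext
        · simp
        · simp only [TrivSqZeroExt.snd_add, TrivSqZeroExt.snd_inl, TrivSqZeroExt.snd_inr, zero_add,
            DualNumber.snd_mul, TrivSqZeroExt.fst_add, TrivSqZeroExt.fst_inl, TrivSqZeroExt.fst_inr, add_zero,
            Derivation.leibniz, Algebra.smul_def, Ideal.Quotient.algebraMap_eq]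
          ring
      map_zero' := by ext <;> simp
      map_add' := fun x y => by ext <;> simp
      commutes' := fun c => by
        have h1 : D (algebraMap k B c) = 0 := by
          rw [IsScalarTower.algebraMap_apply k R B, Derivation.map_algebraMap]
        ext
        · simp; rfl
        · simp [h1]; rfl }
  have h := derivation_eq_zero hT m θ (fun z => by
    show TrivSqZeroExt.snd (TrivSqZeroExt.inl (Ideal.Quotient.mk q (algebraMap R B z)) +
      TrivSqZeroExt.inr (D (algebraMap R B z)) : DualNumber (B ⧸ q)) = 0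
    simp) b
  simpa [θ] using h

end Groth.L06.ProjEmbed
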